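import Cfsg.Agent.McLRank.Basic
import Cfsg.Agent.McLRank.CheckModel
import Cfsg.Agent.McL.Model

/-!
# The automorphism group of the graph is little larger than the known group

Seven vertices fix the graph, and there are few choices for their images.
-/

set_option autoImplicit false

namespace Cfsg.Agent.McLRank

open Cfsg.Agent.Compute Cfsg.Agent.StemCert Cfsg.Agent.U62

/-- The automorphisms of the graph. -/
def Aut0 : Subgroup (Equiv.Perm (Fin 275)) where
  carrier := {g | ∀ x y, Adj0 (g x) (g y) ↔ Adj0 x y}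
  mul_mem' {a b} ha hb x y := (ha _ _).trans (hb x y)
  one_mem' _ _ := Iff.rfl
  inv_mem' {a} ha x y := by
    have := ha (a⁻¹ x) (a⁻¹ y)
    simpa using this.symm

/-- The vertices of the order. -/
def fv (t : ℕ) : Fin 275 := ⟨rigidOrder.getD t 0 % 275, Nat.mod_lt _ (by norm_num)⟩

theorem fv_val {t : ℕ} (ht : t < 275) : (fv t : ℕ) = rigidOrder.getD t 0 := by
  have h := allBelow_eq_true.mp rigid_all t ht
  rw [rigidOK, Bool.and_eq_true, Nat.blt_eq] at h
  exact Nat.mod_eq_of_lt h.1

theorem fv_surj : ∀ x : Fin 275, ∃ t < 275, fv t = x := by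
  have h : allBelow 275 (fun x => Nat.rec (motive := fun _ => Bool) false
      (fun u b => Nat.beq (rigidOrder.getD u 0) x || b) 275) = true := by decide +kernel
  intro x
  have key : ∀ n ≤ 275, Nat.rec (motive := fun _ => Bool) false
      (fun u b => Nat.beq (rigidOrder.getD u 0) x || b) n = true → ∃ t < n, rigidOrder.getD t 0 = x := by
    intro n
    induction n with
    | zero => intro _ e; exact Bool.noConfusion e
    | succ n ih =>
      intro hn e
      change (Nat.beq (rigidOrder.getD n 0) x || _) = true at e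
      rw [Bool.or_eq_true, Nat.beq_eq] at e
      rcases e with e | e
      · exact ⟨n, by omega, e⟩
      · obtain ⟨t, ht, e'⟩ := ih (by omega) e
        exact ⟨t, by omega, e'⟩
  obtain ⟨t, ht, e⟩ := key 275 le_rfl (allBelow_eq_true.mp h x x.2)
  exact ⟨t, ht, Fin.ext ((fv_val ht).trans e)⟩

/-- The automorphisms fixing the first vertices of the order. -/
def Fix0 (t : ℕ) : Subgroup (Equiv.Perm (Fin 275)) where
  carrier := {g | g ∈ Aut0 ∧ ∀ u < t, g (fv u) = fv u}
  mul_mem' {a b} ha hb := ⟨mul_mem ha.1 hb.1, fun u hu => by rw [Equiv.Perm.mul_apply, hb.2 u hu, ha.2 u hu]⟩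
  one_mem' := ⟨one_mem _, fun _ _ => rfl⟩
  inv_mem' {a} ha := ⟨inv_mem ha.1, fun u hu => by rw [Equiv.Perm.inv_eq_iff_eq, ha.2 u hu]⟩

/-- A possible image of a vertex of the order under automorphisms fixing the earlier ones. -/
noncomputable def candB (t x : ℕ) : Bool :=
  patternB t (rigidOrder.getD t 0) x && allBelow t fun u => !Nat.beq (rigidOrder.getD u 0) x

theorem mem_cand {t : ℕ} (ht : t < 275) {g : Equiv.Perm (Fin 275)} (hg : g ∈ Fix0 t)
    (hne : ∀ u < t, fv u ≠ fv t) : candB t (g (fv t)) = true := by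
  rw [candB, Bool.and_eq_true, patternB, allBelow_eq_true, allBelow_eq_true]
  refine ⟨fun u hu => ?_, fun u hu => ?_⟩
  · rw [bEq_true_iff, Bool.eq_iff_iff, ← fv_val ht, ← fv_val (hu.trans ht)]
    have := hg.1 (fv u) (fv t)
    rw [hg.2 u hu] at this
    exact this.symm
  · rw [Bool.not_eq_true', natBeq_false, ← fv_val (hu.trans ht)]
    intro e
    exact hne u hu (g.injective ((hg.2 u hu).trans (Fin.ext e)))

theorem card_step {t : ℕ} (ht : t < 275) (hne : ∀ u < t, fv u ≠ fv t) :
    Nat.card (Fix0 t) ≤ countB 275 (candB t) * Nat.card (Fix0 (t + 1)) := by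
  classical
  set S := Finset.univ.filter fun x : Fin 275 => candB t x = true
  have hmem : ∀ g : ↥(Fix0 t), (g : Equiv.Perm (Fin 275)) (fv t) ∈ S := fun g =>
    Finset.mem_filter.2 ⟨Finset.mem_univ _, mem_cand ht g.2 hne⟩
  let rep : Fin 275 → Equiv.Perm (Fin 275) := fun x =>
    if h : ∃ g : ↥(Fix0 t), (g : Equiv.Perm (Fin 275)) (fv t) = x then (h.choose : Equiv.Perm (Fin 275)) else 1
  have hrep : ∀ g : ↥(Fix0 t), rep (g.1 (fv t)) ∈ Fix0 t ∧ rep (g.1 (fv t)) (fv t) = g.1 (fv t) := fun g => by
    have h : ∃ k : ↥(Fix0 t), (k : Equiv.Perm (Fin 275)) (fv t) = g.1 (fv t) := ⟨g, rfl⟩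
    simp only [rep, dif_pos h]
    exact ⟨h.choose.2, h.choose_spec⟩
  have hfix : ∀ g : ↥(Fix0 t), (rep (g.1 (fv t)))⁻¹ * g.1 ∈ Fix0 (t + 1) := fun g => by
    refine ⟨mul_mem (inv_mem (hrep g).1.1) g.2.1, fun u hu => ?_⟩
    rcases Nat.lt_succ_iff_lt_or_eq.1 hu with hu | hu
    · exact (mul_mem (inv_mem (hrep g).1) g.2).2 u hu
    · rw [hu, Equiv.Perm.mul_apply, Equiv.Perm.inv_eq_iff_eq, (hrep g).2]
  let f : ↥(Fix0 t) → ↥S × ↥(Fix0 (t + 1)) := fun g => (⟨_, hmem g⟩, ⟨_, hfix g⟩)
  have hf : Function.Injective f := fun g k e => by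
    have e1 : (g : Equiv.Perm (Fin 275)) (fv t) = k.1 (fv t) := congrArg (fun z => (z.1 : Fin 275)) e
    have e2 : (rep (g.1 (fv t)))⁻¹ * g.1 = (rep (k.1 (fv t)))⁻¹ * k.1 :=
      congrArg (fun z => (z.2 : Equiv.Perm (Fin 275))) e
    rw [e1] at e2
    exact Subtype.ext (mul_left_cancel e2)
  calc Nat.card (Fix0 t) ≤ Nat.card (↥S × ↥(Fix0 (t + 1))) := Nat.card_le_card_of_injective f hf
    _ = S.card * Nat.card (Fix0 (t + 1)) := by rw [Nat.card_prod, Nat.card_eq_finsetCard]
    _ = _ := by rw [countB_eq]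

theorem fix_all {g : Equiv.Perm (Fin 275)} (hg : g ∈ Fix0 7) : g = 1 := by
  have key : ∀ t, t < 275 → g (fv t) = fv t := by
    intro t
    induction t using Nat.strong_induction_on with
    | _ t ih =>
      intro ht
      rcases Nat.lt_or_ge t 7 with h7 | h7
      · exact hg.2 t h7
      have h := allBelow_eq_true.mp rigid_all t ht
      rw [rigidOK, Bool.and_eq_true] at h
      simp only [Bool.or_eq_true, Nat.blt_eq] at h
      have hx := allBelow_eq_true.mp (h.2.resolve_left (by omega)) (g (fv t)) (g (fv t)).2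
      simp only [Bool.or_eq_true, Nat.beq_eq, Bool.not_eq_true'] at hx
      have hfix : g ∈ Fix0 t := ⟨hg.1, fun u hu => ih u hu (hu.trans ht)⟩
      rcases hx with (hx | hx) | hx
      · exact Fin.ext (hx.trans (fv_val ht).symm)
      · have key2 : ∀ n ≤ t, Nat.rec (motive := fun _ => Bool) false
            (fun u b => Nat.beq (rigidOrder.getD u 0) (g (fv t)) || b) n = true → g (fv t) = fv t := by
          intro n
          induction n with
          | zero => intro _ e; exact Bool.noConfusion e
          | succ n ihn =>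
            intro hn e
            change (Nat.beq (rigidOrder.getD n 0) (g (fv t)) || _) = true at e
            rw [Bool.or_eq_true, Nat.beq_eq] at e
            rcases e with e | e
            · have hne' : fv n = g (fv t) := Fin.ext ((fv_val (by omega)).trans e)
              have : fv n = fv t := g.injective ((hfix.2 n (by omega)).trans hne')
              rw [← hne', this]
            · exact ihn (by omega) e
        exact key2 t le_rfl hx
      · have hp : patternB t (rigidOrder.getD t 0) (g (fv t)) = true := by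
          rw [patternB, allBelow_eq_true]
          intro u hu
          rw [bEq_true_iff, Bool.eq_iff_iff, ← fv_val ht, ← fv_val (hu.trans ht)]
          have := hfix.1 (fv u) (fv t)
          rw [hfix.2 u hu] at this
          exact this.symm
        rw [hp] at hx
        exact Bool.noConfusion hx
  refine Equiv.ext fun x => ?_
  obtain ⟨t, ht, rfl⟩ := fv_surj x
  exact key t ht

theorem cand_counts : (countB 275 (candB 0) * (countB 275 (candB 1) * (countB 275 (candB 2) *
    (countB 275 (candB 3) * (countB 275 (candB 4) * (countB 275 (candB 5) * countB 275 (candB 6))))))) ≤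
      14 * 898128000 := by
  decide +kernel

theorem first_ne : ∀ t : Fin 7, ∀ u : Fin 7, (u : ℕ) < t → fv u ≠ fv t := by decide +kernel

theorem card_Aut0 : Nat.card Aut0 ≤ 14 * 898128000 := by
  have h0 : Nat.card Aut0 ≤ Nat.card (Fix0 0) :=
    Subgroup.card_le_of_le fun g hg => ⟨hg, fun u hu => absurd hu (Nat.not_lt_zero u)⟩
  have h7 : Nat.card (Fix0 7) = 1 := by
    rw [Nat.card_eq_one_iff_unique]
    exact ⟨⟨fun a b => Subtype.ext ((fix_all a.2).trans (fix_all b.2).symm)⟩, ⟨1⟩⟩
  have step : ∀ t < 7, Nat.card (Fix0 t) ≤ countB 275 (candB t) * Nat.card (Fix0 (t + 1)) := fun t ht =>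
    card_step (by omega) fun u hu => first_ne ⟨t, ht⟩ ⟨u, hu.trans ht⟩ hu
  refine le_trans h0 (le_trans ?_ cand_counts)
  refine (step 0 (by norm_num)).trans (Nat.mul_le_mul_left _ ?_)
  refine (step 1 (by norm_num)).trans (Nat.mul_le_mul_left _ ?_)
  refine (step 2 (by norm_num)).trans (Nat.mul_le_mul_left _ ?_)
  refine (step 3 (by norm_num)).trans (Nat.mul_le_mul_left _ ?_)
  refine (step 4 (by norm_num)).trans (Nat.mul_le_mul_left _ ?_)
  refine (step 5 (by norm_num)).trans (Nat.mul_le_mul_left _ ?_)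
  refine (step 6 (by norm_num)).trans ?_
  rw [h7, mul_one]

theorem numbering_spec (x : Fin 275) : getField 9 numbering x < 275 ∧ getField 9 numberingInv x < 275 ∧
    getField 9 numbering (getField 9 numberingInv x) = x ∧
    getField 9 numberingInv (getField 9 numbering x) = x := by
  have h := allBelow_eq_true.mp numbering_ok x x.2
  simp only [Bool.and_eq_true, Nat.blt_eq, Nat.beq_eq] at h
  exact ⟨h.1.1.1, h.1.1.2, h.1.2, h.2⟩

/-- The numbering of the known model. -/
noncomputable def numE : Fin 275 ≃ Fin 275 where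
  toFun x := ⟨getField 9 numbering x, (numbering_spec x).1⟩
  invFun x := ⟨getField 9 numberingInv x, (numbering_spec x).2.1⟩
  left_inv x := Fin.ext (numbering_spec x).2.2.2
  right_inv x := Fin.ext (numbering_spec x).2.2.1

/-- The known group acting on the graph. -/
noncomputable def ψ : ↥Cfsg.Spor.McL →* Equiv.Perm (Fin 275) :=
  numE.permCongrHom.toMonoidHom.comp McL.ι

theorem ψ_injective : Function.Injective ψ := numE.permCongrHom.injective.comp McL.ι_injective

theorem ψ_gen {s : ℕ} (hs : s < 6) : ψ (McL.gen s) ∈ Aut0 := by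
  have h := allBelow_eq_true.mp model_all s hs
  rw [modelOK, forceN_eq] at h
  have e : ∀ x : Fin 275, (ψ (McL.gen s) x : ℕ) = getField 9 (pack 9 275 fun y => getField 9 numbering
      (getField 9 (McL.Model.codes.getD s 0) (getField 9 numberingInv y))) x := fun x => by
    rw [getField_pack 9 275 _ (fun i _ => getField_lt _ _ _) x.2]
    show getField 9 numbering (McL.ι (McL.gen s) (numE.symm x) : ℕ) = _
    rw [McL.coded s hs]
    rfl
  intro x y
  have hxy := allBelow_eq_true.mp (allBelow_eq_true.mp h x x.2) y y.2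
  rw [bEq_true_iff] at hxy
  show adjB _ _ = true ↔ adjB _ _ = true
  rw [e, e, hxy]

theorem ψ_range_le : ψ.range ≤ Aut0 := by
  rintro _ ⟨g, rfl⟩
  have hle : Submonoid.closure (McL.gen '' {s | s < 6}) ≤ (Aut0.comap ψ).toSubmonoid :=
    Submonoid.closure_le.2 (by rintro _ ⟨s, hs, rfl⟩; exact ψ_gen hs)
  exact hle (McL.generated g)

theorem card_ψ_range : Nat.card ψ.range = 898128000 := by
  rw [← Nat.card_congr (MonoidHom.ofInjective ψ_injective).toEquiv, McL.card_mcl]

end Cfsg.Agent.McLRank
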