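import Cfsg.Agent.McLRank.Defs

/-!
# Intersections of hemisystems in one orbit
-/

set_option autoImplicit false
set_option maxRecDepth 100000
set_option maxHeartbeats 0

namespace Cfsg.Agent.McLRank

open Cfsg.Agent.Compute

theorem inter_a : allBelow 81 interGraphOK = true := by decide +kernel

theorem inter_b : allBelow 81 (fun i => interGraphOK (Nat.add i 81)) = true := by decide +kernel

end Cfsg.Agent.McLRank
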