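import Cfsg.Agent.McLRank.Defs

/-!
# The search for hemisystems succeeds
-/

set_option autoImplicit false
set_option maxRecDepth 100000
set_option maxHeartbeats 0

namespace Cfsg.Agent.McLRank

theorem search_ok : treeB searchTree 0 0 = true := by decide +kernel

end Cfsg.Agent.McLRank
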