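import Cfsg.Agent.McLRank.Checks
import Cfsg.Agent.McLRank.CheckSearch
import Cfsg.Agent.McLRank.CheckInter
import Cfsg.Agent.U62.GFacts

/-!
# The quadrangle on 112 points and its hemisystems

The only sets meeting each line in two points are the 648 listed ones.
-/

set_option autoImplicit false

namespace Cfsg.Agent.McLRank

open Cfsg.Agent.Compute Cfsg.Agent.StemCert Cfsg.Agent.U62

theorem bEq_true_iff {a b : Bool} : bEq a b = true ↔ a = b := by cases a <;> cases b <;> decide

theorem natBeq_false {a b : ℕ} : Nat.beq a b = false ↔ a ≠ b := by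
  rw [Bool.eq_false_iff, ne_eq, Nat.beq_eq]

theorem bitM_testBit (m i : ℕ) : bitM m i = m.testBit i := by
  rw [Bool.eq_iff_iff, bitM, Nat.beq_eq, Nat.testBit_eq_decide_div_mod_eq, decide_eq_true_iff,
    ← Nat.shiftRight_eq_div_pow]
  rfl

theorem countB_eq (n : ℕ) (f : ℕ → Bool) :
    countB n f = (Finset.univ.filter fun i : Fin n => f i = true).card := by
  induction n with
  | zero => rfl
  | succ k ih =>
    show cond (f k) (Nat.succ (countB k f)) (countB k f) = _
    rw [Finset.card_filter, Fin.sum_univ_castSucc, ih, Finset.card_filter]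
    cases h : f k <;> simp [h]

/-- Collinearity. -/
def Col (p q : Fin 112) : Prop := colB p q = true

noncomputable instance : DecidableRel Col := fun p q => inferInstanceAs (Decidable (colB p q = true))

theorem col_gen {s : ℕ} (hs : s < 5) (p q : Fin 112) :
    Col (ιG (gG s) p) (ιG (gG s) q) ↔ Col p q := by
  have h := allBelow_eq_true.mp (allBelow_eq_true.mp (allBelow_eq_true.mp genCol_all s hs) p p.2) q q.2
  rw [bEq_true_iff] at h
  show colB _ _ = true ↔ _
  rw [coded_G s hs p, coded_G s hs q, h]
  rfl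

theorem col_map (x : U62.G) (p q : Fin 112) : Col (ιG x p) (ιG x q) ↔ Col p q := by
  have key : ∀ y ∈ Submonoid.closure (gG '' {s | s < 5}), ∀ p q, Col (ιG y p) (ιG y q) ↔ Col p q := by
    intro y hy
    induction hy using Submonoid.closure_induction with
    | mem t ht => obtain ⟨s, hs, rfl⟩ := ht; exact col_gen hs
    | one => intro p q; rw [map_one]; rfl
    | mul a b _ _ iha ihb =>
      intro p q
      rw [map_mul, Equiv.Perm.mul_apply, Equiv.Perm.mul_apply, iha, ihb]
  exact key x (UnitMult.FourThree.gen_generates x) p q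

/-- A point of a line. -/
noncomputable def lineP (k : Fin 280) (i : Fin 4) : Fin 112 :=
  ⟨linePt k i, by
    have h := allBelow_eq_true.mp (allBelow_eq_true.mp lines_all k k.2) i i.2
    rw [Bool.and_eq_true, Nat.blt_eq] at h
    exact h.1⟩

theorem line_col {k : Fin 280} {i i' : Fin 4} (h : (i' : ℕ) < i) :
    Col (lineP k i) (lineP k i') ∧ lineP k i ≠ lineP k i' := by
  have h1 := allBelow_eq_true.mp (allBelow_eq_true.mp lines_all k k.2) i i.2
  rw [Bool.and_eq_true] at h1
  have h2 := allBelow_eq_true.mp h1.2 i' h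
  simp only [Bool.and_eq_true, Bool.not_eq_true', natBeq_false] at h2
  exact ⟨h2.1, fun e => by
    have := congrArg Fin.val e
    exact h2.2 this⟩

/-- A set of points meets each line in two points. -/
def Hemi (S : Fin 112 → Bool) : Prop :=
  ∀ k : Fin 280, (∑ i : Fin 4, if S (lineP k i) = true then 1 else 0) = 2

/-- Membership in packed inside and outside sets agrees with a set. -/
def Compat (S : Fin 112 → Bool) (i o : ℕ) : Prop :=
  ∀ p : Fin 112, (bitM i p = true → S p = true) ∧ (bitM o p = true → S p = false)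

theorem bitM_lor (a b p : ℕ) : bitM (Nat.lor a b) p = (bitM a p || bitM b p) := by
  rw [bitM_testBit, bitM_testBit, bitM_testBit]
  exact Nat.testBit_lor a b p

theorem bitM_single (q p : ℕ) : bitM (Nat.shiftLeft 1 q) p = decide (q = p) := by
  rw [bitM_testBit]
  show (1 <<< q).testBit p = _
  rw [Nat.one_shiftLeft, Nat.testBit_two_pow]

theorem lineCount_eq (k : Fin 280) (m : ℕ) :
    lineCount k m = ∑ i : Fin 4, if bitM m (lineP k i) = true then 1 else 0 := by
  rw [lineCount, countB_eq, Finset.card_filter]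
  rfl

theorem lineRest_spec {k : Fin 280} {m : ℕ} {p : Fin 112} (h : bitM (lineRest k m) p = true) :
    ∃ i : Fin 4, lineP k i = p ∧ bitM m p = false := by
  have key : ∀ n ≤ 4, bitM (Nat.rec (motive := fun _ => ℕ) 0
      (fun i r => cond (bitM m (linePt k i)) r (Nat.lor r (Nat.shiftLeft 1 (linePt k i)))) n) p = true →
      ∃ i < n, linePt k i = p ∧ bitM m (linePt k i) = false := by
    intro n
    induction n with
    | zero => intro _ h; simp [bitM] at h
    | succ n ih =>
      intro hn h
      cases hb : bitM m (linePt k n) with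
      | true =>
        simp only [hb, cond_true] at h
        obtain ⟨i, hi, e⟩ := ih (by omega) h
        exact ⟨i, by omega, e⟩
      | false =>
        simp only [hb, cond_false, bitM_lor, Bool.or_eq_true] at h
        rcases h with h | h
        · obtain ⟨i, hi, e⟩ := ih (by omega) h
          exact ⟨i, by omega, e⟩
        · rw [bitM_single, decide_eq_true_eq] at h
          exact ⟨n, by omega, h, hb⟩
  obtain ⟨i, hi, e1, e2⟩ := key 4 le_rfl h
  exact ⟨⟨i, hi⟩, Fin.ext e1, by rw [e1] at e2; exact e2⟩

theorem four_pts : ∀ a s : Fin 4 → Bool, (∀ i, a i = true → s i = true) →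
    (∑ i, if a i = true then 1 else 0) = 2 → (∑ i, if s i = true then 1 else 0) = 2 →
    ∀ i, a i = false → s i = false := by decide +kernel

theorem force_out {S : Fin 112 → Bool} (hS : Hemi S) (k : Fin 280) {i o : ℕ} (h : Compat S i o) :
    ∀ p : Fin 112, bitM (stepOut k i o) p = true → S p = false := by
  intro p hp
  rw [stepOut] at hp
  cases hb : Nat.beq (lineCount k i) 2 with
  | false => rw [hb] at hp; exact (h p).2 hp
  | true =>
    rw [hb, cond_true, bitM_lor, Bool.or_eq_true] at hp
    rcases hp with hp | hp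
    · exact (h p).2 hp
    · obtain ⟨l, rfl, hl⟩ := lineRest_spec hp
      refine four_pts (fun j => bitM i (lineP k j)) (fun j => S (lineP k j)) (fun j => (h _).1) ?_ (hS k) l hl
      rw [← lineCount_eq]
      exact Nat.eq_of_beq_eq_true hb

theorem hemi_compl {S : Fin 112 → Bool} (hS : Hemi S) : Hemi fun p => !S p := by
  have h4 : ∀ s : Fin 4 → Bool, (∑ i, if s i = true then 1 else 0) = 2 →
      (∑ i, if (!s i) = true then 1 else 0) = 2 := by decide +kernel
  exact fun k => h4 _ (hS k)

theorem compat_swap {S : Fin 112 → Bool} {i o : ℕ} (h : Compat S i o) : Compat (fun p => !S p) o i :=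
  fun p => ⟨fun e => by simp [(h p).2 e], fun e => by simp [(h p).1 e]⟩

theorem forceN_eq {α : Type} (n : ℕ) (k : ℕ → α) : forceN n k = k n := by cases n <;> rfl

theorem compat_run {S : Fin 112 → Bool} (hS : Hemi S) (t : ℕ → ℕ → Bool) :
    ∀ (fs : List ℕ) (i o : ℕ), runB fs t i o = true → Compat S i o →
      ∃ i' o', t i' o' = true ∧ Compat S i' o'
  | [], i, o, h, hc => ⟨i, o, h, hc⟩
  | k :: fs, i, o, h, hc => by
    have h' : (Nat.blt k 280 && forceN (stepOut k o i) fun i' =>
        forceN (stepOut k i o) fun o' => runB fs t i' o') = true := h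
    rw [Bool.and_eq_true, Nat.blt_eq, forceN_eq, forceN_eq] at h'
    refine compat_run hS t fs _ _ h'.2 fun p => ⟨fun e => ?_, fun e => force_out hS ⟨k, h'.1⟩ hc p e⟩
    have := force_out (hemi_compl hS) ⟨k, h'.1⟩ (compat_swap hc) p e
    simpa using this

theorem bad_false {S : Fin 112 → Bool} (hS : Hemi S) (k : Fin 280) {i o : ℕ} (h : Compat S i o) :
    ¬ 2 < lineCount k i := by
  intro hlt
  rw [lineCount_eq] at hlt
  have : (∑ j : Fin 4, if bitM i (lineP k j) = true then 1 else 0) ≤
      ∑ j : Fin 4, if S (lineP k j) = true then 1 else 0 := Finset.sum_le_sum fun j _ => by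
    by_cases e : bitM i (lineP k j) = true
    · rw [if_pos e, if_pos ((h _).1 e)]
    · rw [if_neg e]; exact Nat.zero_le _
  rw [hS k] at this
  omega

/-- A listed hemisystem. -/
noncomputable def orbMem (j : Fin 4) (i : Fin 162) (p : Fin 112) : Bool := bitM (orbAt j i) p

theorem tree_sound {S : Fin 112 → Bool} (hS : Hemi S) :
    ∀ (t : HTree) (i o : ℕ), treeB t i o = true → Compat S i o → ∃ j l, S = orbMem j l
  | .bad fs k, i, o, h, hc => by
    obtain ⟨i', o', ht, hc'⟩ := compat_run hS _ fs i o h hc
    simp only [Bool.and_eq_true, Bool.or_eq_true, Nat.blt_eq] at ht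
    rcases ht.2 with e | e
    · exact absurd e (bad_false hS ⟨k, ht.1⟩ hc')
    · exact absurd e (bad_false (hemi_compl hS) ⟨k, ht.1⟩ (compat_swap hc'))
  | .sol fs n, i, o, h, hc => by
    obtain ⟨i', o', ht, hc'⟩ := compat_run hS _ fs i o h hc
    simp only [Bool.and_eq_true, Nat.blt_eq, Nat.beq_eq] at ht
    obtain ⟨⟨hn, he⟩, hall⟩ := ht
    refine ⟨⟨n / 162, by omega⟩, ⟨n % 162, Nat.mod_lt _ (by norm_num)⟩, funext fun p => ?_⟩
    have hp := allBelow_eq_true.mp hall p p.2
    show S p = bitM (hemiAt n) p
    rw [← he]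
    cases hb : bitM i' p with
    | true => exact (hc' p).1 hb
    | false => exact (hc' p).2 (by simpa [hb] using hp)
  | .br fs q l r, i, o, h, hc => by
    obtain ⟨i', o', ht, hc'⟩ := compat_run hS _ fs i o h hc
    simp only [Bool.and_eq_true] at ht
    by_cases hq : q < 112
    · cases hb : S ⟨q, hq⟩ with
      | true =>
        refine tree_sound hS l _ _ ht.1 fun p => ⟨fun e => ?_, (hc' p).2⟩
        rw [bitM_lor, Bool.or_eq_true, bitM_single, decide_eq_true_eq] at e
        rcases e with e | e
        · exact (hc' p).1 e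
        · obtain rfl : p = ⟨q, hq⟩ := Fin.ext e.symm
          exact hb
      | false =>
        refine tree_sound hS r _ _ ht.2 fun p => ⟨(hc' p).1, fun e => ?_⟩
        rw [bitM_lor, Bool.or_eq_true, bitM_single, decide_eq_true_eq] at e
        rcases e with e | e
        · exact (hc' p).2 e
        · obtain rfl : p = ⟨q, hq⟩ := Fin.ext e.symm
          exact hb
    · refine tree_sound hS l _ _ ht.1 fun p => ⟨fun e => ?_, (hc' p).2⟩
      rw [bitM_lor, Bool.or_eq_true, bitM_single, decide_eq_true_eq] at e
      rcases e with e | e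
      · exact (hc' p).1 e
      · exact absurd (e ▸ p.2) hq

theorem hemi_classify {S : Fin 112 → Bool} (hS : Hemi S) : ∃ j l, S = orbMem j l :=
  tree_sound hS searchTree 0 0 search_ok fun p => ⟨fun e => by simp [bitM] at e, fun e => by simp [bitM] at e⟩

/-- The element moving the first member of an orbit to a given one. -/
noncomputable def orbEl (j : Fin 4) (i : Fin 162) : U62.G := evalW gG (orbWord j i)

theorem orb_spec (j : Fin 4) (i : Fin 162) (p : Fin 112) :
    orbMem j i (ιG (orbEl j i) p) = orbMem j 0 p := by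
  have h := allBelow_eq_true.mp (allBelow_eq_true.mp orb_all j j.2) i i.2
  simp only [orbOK, Bool.and_eq_true] at h
  have h2 := allBelow_eq_true.mp h.2 p p.2
  rw [bEq_true_iff] at h2
  show bitM _ _ = bitM _ _
  rw [orbEl, wP_spec (lettersB_iff.1 h.1)]
  exact h2

/-- The automorphism of the quadrangle carrying the first orbit to a given one. -/
noncomputable def thetaE (j : Fin 4) : Equiv.Perm (Fin 112) :=
  denPerm 7 112 (Equiv.refl _) (thetas.getD j 0)

theorem thetaE_apply (j : Fin 4) (p : Fin 112) : (thetaE j p : ℕ) = theta j p := by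
  have h := allBelow_eq_true.mp theta_all j j.2
  simp only [thetaOK, Bool.and_eq_true] at h
  have := denPerm_apply (Equiv.refl (Fin 112)) (codePerm_of_check h.1.1) p
  exact congrArg Fin.val this

theorem thetaE_col (j : Fin 4) (p q : Fin 112) : Col (thetaE j p) (thetaE j q) ↔ Col p q := by
  have h := allBelow_eq_true.mp theta_all j j.2
  simp only [thetaOK, Bool.and_eq_true] at h
  have h2 := allBelow_eq_true.mp (allBelow_eq_true.mp h.1.2 p p.2) q q.2
  rw [bEq_true_iff] at h2
  show colB _ _ = true ↔ _
  rw [thetaE_apply, thetaE_apply, h2]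
  rfl

theorem thetaE_orb (j : Fin 4) (i : Fin 162) (p : Fin 112) : orbMem j i (thetaE j p) = orbMem 0 i p := by
  have h := allBelow_eq_true.mp theta_all j j.2
  simp only [thetaOK, Bool.and_eq_true] at h
  have h2 := allBelow_eq_true.mp (allBelow_eq_true.mp h.2 i i.2) p p.2
  rw [bEq_true_iff] at h2
  show bitM _ _ = bitM _ _
  rw [thetaE_apply]
  exact h2

/-- Adjacency among the listed 275 vertices. -/
def Adj0 (x y : Fin 275) : Prop := adjB x y = true

/-- The vertex of a point. -/
def vP (p : Fin 112) : Fin 275 := ⟨p, by have := p.2; omega⟩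

/-- The vertex of a hemisystem. -/
def vC (i : Fin 162) : Fin 275 := ⟨112 + i, by have := i.2; omega⟩

/-- The last vertex. -/
def vI : Fin 275 := ⟨274, by norm_num⟩

theorem row_point (p : Fin 112) : Adj0 (vP p) vI ∧ Adj0 vI (vP p) ∧
    (∀ q, Adj0 (vP p) (vP q) ↔ Col p q) ∧
    ∀ i, (Adj0 (vP p) (vC i) ↔ orbMem 0 i p = true) ∧ (Adj0 (vC i) (vP p) ↔ orbMem 0 i p = true) := by
  have h := allBelow_eq_true.mp pointRow_all p p.2
  simp only [pointRowOK, Bool.and_eq_true] at h
  refine ⟨h.1.1.1, h.1.1.2, fun q => ?_, fun i => ?_⟩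
  · have h2 := allBelow_eq_true.mp h.1.2 q q.2
    rw [bEq_true_iff] at h2
    show adjB _ _ = true ↔ _
    rw [show ((vP p : Fin 275) : ℕ) = p from rfl, show ((vP q : Fin 275) : ℕ) = q from rfl, h2]
    rfl
  · have h2 := allBelow_eq_true.mp h.2 i i.2
    simp only [Bool.and_eq_true, bEq_true_iff] at h2
    exact ⟨(show adjB p (Nat.add 112 i) = true ↔ _ by rw [h2.1]; rfl),
      (show adjB (Nat.add 112 i) p = true ↔ _ by rw [h2.2]; rfl)⟩

theorem row_last : ¬ Adj0 vI vI ∧ ∀ i, ¬ Adj0 vI (vC i) ∧ ¬ Adj0 (vC i) vI := by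
  have h := lastRow_ok
  simp only [lastRowOK, Bool.and_eq_true, allBelow_eq_true, Bool.not_eq_true'] at h
  exact ⟨fun e => by simp [Adj0, vI, h.1] at e,
    fun i => ⟨fun e => by have := (h.2 i i.2).1; change adjB 274 (Nat.add 112 i) = true at e; rw [this] at e; exact Bool.noConfusion e,
      fun e => by have := (h.2 i i.2).2; change adjB (Nat.add 112 i) 274 = true at e; rw [this] at e; exact Bool.noConfusion e⟩⟩

theorem inter_all (i : ℕ) (hi : i < 162) : interGraphOK i = true := by
  rcases Nat.lt_or_ge i 81 with h | h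
  · exact allBelow_eq_true.mp inter_a i h
  have := allBelow_eq_true.mp inter_b (i - 81) (by omega)
  rwa [show Nat.add (i - 81) 81 = i from Nat.sub_add_cancel h] at this

theorem inter_facts (i : Fin 162) :
    (Finset.univ.filter fun k : Fin 162 => adjB (Nat.add 112 i) (Nat.add 112 k) = true).card = 56 ∧
    ¬ Adj0 (vC i) (vC i) ∧
    (Finset.univ.filter fun p => orbMem 0 i p = true).card = 56 ∧
    ∀ k, k ≠ i → (Finset.univ.filter fun p => orbMem 0 i p = true ∧ orbMem 0 k p = true).card =
      if adjB (Nat.add 112 i) (Nat.add 112 k) = true then 20 else 32 := by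
  have h := inter_all i i.2
  simp only [interGraphOK, Bool.and_eq_true, Nat.beq_eq] at h
  have hcount : ∀ k : Fin 162, interN i k =
      (Finset.univ.filter fun p => orbMem 0 i p = true ∧ orbMem 0 k p = true).card := fun k => by
    rw [interN, countB_eq]
    simp only [Bool.and_eq_true]
    rfl
  have hii := allBelow_eq_true.mp h.2 i i.2
  rw [show Nat.beq (i : ℕ) i = true by simp, cond_true, Bool.and_eq_true, Nat.beq_eq, hcount,
    Bool.not_eq_true'] at hii
  refine ⟨by rw [← h.1, countB_eq], fun e => ?_, by simpa using hii.1, fun k hk => ?_⟩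
  · change adjB (Nat.add 112 i) (Nat.add 112 i) = true at e
    rw [hii.2] at e
    exact Bool.noConfusion e
  · have hk' := allBelow_eq_true.mp h.2 k k.2
    rw [show Nat.beq (i : ℕ) k = false by rw [natBeq_false]; exact fun e => hk (Fin.ext e.symm),
      cond_false] at hk'
    cases ha : adjB (Nat.add 112 i) (Nat.add 112 k) <;> rw [ha] at hk' <;>
      simp only [cond_true, cond_false, Nat.beq_eq, hcount] at hk' <;> simpa [ha] using hk'

end Cfsg.Agent.McLRank
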