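import Cfsg.Agent.McLRank.Defs

/-!
# The verified conditions
-/

set_option autoImplicit false
set_option maxRecDepth 100000
set_option maxHeartbeats 0

namespace Cfsg.Agent.McLRank

open Cfsg.Agent.Compute Cfsg.Agent.StemCert Cfsg.Agent.U62

theorem lines_all : allBelow 280 lineOK = true := by decide +kernel

theorem genCol_all : allBelow 5 genColOK = true := by decide +kernel

theorem theta_all : allBelow 4 thetaOK = true := by decide +kernel

theorem orb_all : allBelow 4 (fun j => allBelow 162 (orbOK j)) = true := by decide +kernel

theorem pointRow_all : allBelow 112 pointRowOK = true := by decide +kernel

theorem lastRow_ok : lastRowOK = true := by decide +kernel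

theorem far_count : Nat.beq (countB 112 farB) 81 = true := by decide +kernel

theorem far_all : allBelow 112 farOK = true := by decide +kernel

theorem lineRad_all : allBelow 112 lineRadOK = true := by decide +kernel

theorem reps_ok : repsOK = true := by decide +kernel

theorem numbering_ok : numberingOK = true := by decide +kernel

end Cfsg.Agent.McLRank
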