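import Cfsg.Agent.McLRank.Data
import Cfsg.Agent.U62.CheckDefs
import Cfsg.Agent.McL.ModelData

/-!
# Conditions on the quadrangle, its hemisystems and the graph, to be verified by evaluation
-/

set_option autoImplicit false

namespace Cfsg.Agent.McLRank

open Cfsg.Agent.Compute Cfsg.Agent.StemCert Cfsg.Agent.U62

/-- Membership in a packed set. -/
noncomputable def bitM (m i : ℕ) : Bool := Nat.beq (Nat.mod (Nat.shiftRight m i) 2) 1

/-- Equality of truth values. -/
noncomputable def bEq (a b : Bool) : Bool := cond a b (!b)

/-- The number of true values below a bound. -/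
noncomputable def countB (n : ℕ) (f : ℕ → Bool) : ℕ :=
  Nat.rec (motive := fun _ => ℕ) 0 (fun k r => cond (f k) (Nat.succ r) r) n

/-- Collinearity of two points. -/
noncomputable def colB (p q : ℕ) : Bool := bitM (colRows.getD p 0) q

/-- A point of a line. -/
noncomputable def linePt (k i : ℕ) : ℕ := getField 7 (lineCodes.getD k 0) i

/-- The lines consist of four pairwise collinear points. -/
noncomputable def lineOK (k : ℕ) : Bool :=
  allBelow 4 fun i => Nat.blt (linePt k i) 112 &&
    allBelow i fun i' => colB (linePt k i) (linePt k i') && !Nat.beq (linePt k i) (linePt k i')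

/-- How many points of a line lie in a packed set. -/
noncomputable def lineCount (k m : ℕ) : ℕ := countB 4 fun i => bitM m (linePt k i)

/-- The points of a line outside a packed set. -/
noncomputable def lineRest (k m : ℕ) : ℕ :=
  Nat.rec (motive := fun _ => ℕ) 0
    (fun i r => cond (bitM m (linePt k i)) r (Nat.lor r (Nat.shiftLeft 1 (linePt k i)))) 4

/-- The new outside set after a forced line. -/
noncomputable def stepOut (k i o : ℕ) : ℕ :=
  cond (Nat.beq (lineCount k i) 2) (Nat.lor o (lineRest k i)) o

/-- Carry out forced lines, then a test. -/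
noncomputable def runB (fs : List ℕ) (t : ℕ → ℕ → Bool) : ℕ → ℕ → Bool :=
  List.rec (motive := fun _ => ℕ → ℕ → Bool) t
    (fun k _ r i o => Nat.blt k 280 &&
      forceN (stepOut k o i) fun i' => forceN (stepOut k i o) fun o' => r i' o') fs

/-- The hemisystem with the given number. -/
noncomputable def hemiAt (n : ℕ) : ℕ := (orbs.getD (Nat.div n 162) []).getD (Nat.mod n 162) 0

/-- The search succeeds. -/
noncomputable def treeB (t : HTree) : ℕ → ℕ → Bool :=
  HTree.rec (motive := fun _ => ℕ → ℕ → Bool)
    (fun fs k => runB fs fun i o =>
      Nat.blt k 280 && (Nat.blt 2 (lineCount k i) || Nat.blt 2 (lineCount k o)))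
    (fun fs n => runB fs fun i o =>
      Nat.blt n 648 && Nat.beq i (hemiAt n) && allBelow 112 fun p => bitM i p || bitM o p)
    (fun fs p _ _ rl rr => runB fs fun i o =>
      rl (Nat.lor i (Nat.shiftLeft 1 p)) o && rr i (Nat.lor o (Nat.shiftLeft 1 p))) t

/-- A member of an orbit of hemisystems. -/
noncomputable def orbAt (j i : ℕ) : ℕ := (orbs.getD j []).getD i 0

/-- The word moving the first member of an orbit to another one. -/
noncomputable def orbWord (j i : ℕ) : List ℕ := (orbWords.getD j []).getD i []

/-- The word moves the first member to the given one. -/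
noncomputable def orbOK (j i : ℕ) : Bool :=
  lettersB 5 (orbWord j i) &&
    allBelow 112 fun p => bEq (bitM (orbAt j i) (wP (orbWord j i) p)) (bitM (orbAt j 0) p)

/-- The packed automorphism of the quadrangle. -/
noncomputable def theta (j p : ℕ) : ℕ := getField 7 (thetas.getD j 0) p

/-- The automorphism carries the first orbit to the given one. -/
noncomputable def thetaOK (j : ℕ) : Bool :=
  codePermB 7 112 (thetas.getD j 0) &&
    (allBelow 112 fun p => allBelow 112 fun q => bEq (colB (theta j p) (theta j q)) (colB p q)) &&
    allBelow 162 fun i => allBelow 112 fun p => bEq (bitM (orbAt j i) (theta j p)) (bitM (orbAt 0 i) p)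

/-- A generator preserves collinearity. -/
noncomputable def genColOK (s : ℕ) : Bool :=
  allBelow 112 fun p => allBelow 112 fun q =>
    bEq (colB (getField 7 (pcs.getD s 0) p) (getField 7 (pcs.getD s 0) q)) (colB p q)

/-- Adjacency of two of the 275 vertices. -/
noncomputable def adjB (x y : ℕ) : Bool := bitM (adjRows.getD x 0) y

/-- The common points of two members of the first orbit. -/
noncomputable def interN (i k : ℕ) : ℕ :=
  countB 112 fun p => bitM (orbAt 0 i) p && bitM (orbAt 0 k) p

/-- Adjacency of members of the first orbit. -/
noncomputable def interGraphOK (i : ℕ) : Bool :=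
  Nat.beq (countB 162 fun k => adjB (Nat.add 112 i) (Nat.add 112 k)) 56 &&
    allBelow 162 fun k => cond (Nat.beq i k)
      (Nat.beq (interN i i) 56 && !adjB (Nat.add 112 i) (Nat.add 112 k))
      (cond (adjB (Nat.add 112 i) (Nat.add 112 k)) (Nat.beq (interN i k) 20) (Nat.beq (interN i k) 32))

/-- The rows at the points and at the last vertex. -/
noncomputable def pointRowOK (p : ℕ) : Bool :=
  adjB p 274 && adjB 274 p && (allBelow 112 fun q => bEq (adjB p q) (colB p q)) &&
    allBelow 162 fun i => bEq (adjB p (Nat.add 112 i)) (bitM (orbAt 0 i) p) &&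
      bEq (adjB (Nat.add 112 i) p) (bitM (orbAt 0 i) p)

/-- The last vertex is adjacent to the points only. -/
noncomputable def lastRowOK : Bool :=
  !adjB 274 274 && allBelow 162 fun i => !adjB 274 (Nat.add 112 i) && !adjB (Nat.add 112 i) 274

/-- A point collinear with the base point and one not collinear with it. -/
noncomputable def farB (q : ℕ) : Bool := !Nat.beq q 72 && !colB 72 q

/-- The radical moves each far point freely. -/
noncomputable def farOK (q : ℕ) : Bool :=
  !farB q || allBelow 81 fun t => Nat.beq t 0 || !Nat.beq (wP (eWord (exp4 t)) q) q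

/-- Some element of the radical moves one point to another. -/
noncomputable def radTo (q r : ℕ) : Bool :=
  Nat.rec (motive := fun _ => Bool) false (fun t b => Nat.beq (wP (eWord (exp4 t)) q) r || b) 81

/-- The radical is transitive on each line, and a line has two further points. -/
noncomputable def lineRadOK (q : ℕ) : Bool :=
  !colB 72 q || (Nat.beq (countB 112 fun r => colB 72 r && colB q r) 2 &&
    lettersB 4 (colWords.getD q []) && Nat.beq (wP (colWords.getD q []) (lineReps.getD 0 0)) q &&
    allBelow 112 fun r => !(colB 72 r && colB q r) || radTo q r)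

/-- The representatives are pairwise not collinear. -/
noncomputable def repsOK : Bool :=
  allBelow 10 fun k => Nat.blt (lineReps.getD k 0) 112 && colB 72 (lineReps.getD k 0) &&
    allBelow 10 fun l => Nat.beq k l || (!colB (lineReps.getD k 0) (lineReps.getD l 0) &&
      !Nat.beq (lineReps.getD k 0) (lineReps.getD l 0))

/-- The numbering carries a generator of the known group to an automorphism of the graph. -/
noncomputable def modelOK (s : ℕ) : Bool :=
  forceN (pack 9 275 fun x => getField 9 numbering
      (getField 9 (McL.Model.codes.getD s 0) (getField 9 numberingInv x))) fun h =>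
    allBelow 275 fun x => allBelow 275 fun y =>
      bEq (adjB (getField 9 h x) (getField 9 h y)) (adjB x y)

/-- The numbering is invertible. -/
noncomputable def numberingOK : Bool :=
  allBelow 275 fun x => Nat.blt (getField 9 numbering x) 275 && Nat.blt (getField 9 numberingInv x) 275 &&
    Nat.beq (getField 9 numbering (getField 9 numberingInv x)) x &&
    Nat.beq (getField 9 numberingInv (getField 9 numbering x)) x

/-- The pattern of adjacency to the first vertices of the order. -/
noncomputable def patternB (t x y : ℕ) : Bool :=
  allBelow t fun u => bEq (adjB (rigidOrder.getD u 0) x) (adjB (rigidOrder.getD u 0) y)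

/-- Each later vertex is determined by the earlier ones. -/
noncomputable def rigidOK (t : ℕ) : Bool :=
  Nat.blt (rigidOrder.getD t 0) 275 && (Nat.blt t 7 ||
    allBelow 275 fun x => Nat.beq x (rigidOrder.getD t 0) ||
      (Nat.rec (motive := fun _ => Bool) false (fun u b => Nat.beq (rigidOrder.getD u 0) x || b) t) ||
      !patternB t (rigidOrder.getD t 0) x)

end Cfsg.Agent.McLRank
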