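import Cfsg.Agent.McLRank.Basic

/-!
# The graph is determined by the neighbourhood of a vertex and a group acting on it

With a vertex, a line of its neighbourhood makes a five-clique, and double counting shows that each
other vertex sees exactly two of its members: the vertices at distance two give hemisystems.
-/

set_option autoImplicit false

namespace Cfsg.Agent.McLRank

open Cfsg.Agent.Compute Cfsg.Agent.StemCert Cfsg.Agent.U62

/-- A strongly regular graph with parameters (275, 112, 30, 56) and a group at a vertex. -/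
structure Setting (Ω : Type*) [Fintype Ω] [DecidableEq Ω] (R : Ω → Ω → Prop) [DecidableRel R] where
  /-- The vertex. -/
  a : Ω
  card : Fintype.card Ω = 275
  irrefl : ∀ x, ¬ R x x
  symm : ∀ x y, R x y → R y x
  deg : ∀ x, (Finset.univ.filter fun y => R x y).card = 112
  lam : ∀ x y, R x y → (Finset.univ.filter fun z => R x z ∧ R y z).card = 30
  mu : ∀ x y, x ≠ y → ¬ R x y → (Finset.univ.filter fun z => R x z ∧ R y z).card = 56
  /-- The numbering of the neighbourhood. -/
  β : Fin 112 → Ω
  β_inj : Function.Injective β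
  β_adj : ∀ p, R a (β p)
  β_surj : ∀ x, R a x → ∃ p, β p = x
  β_col : ∀ p q, R (β p) (β q) ↔ Col p q
  /-- The action of the group. -/
  φ : U62.G → Equiv.Perm Ω
  φ_fix : ∀ g, φ g a = a
  φ_adj : ∀ g x y, R (φ g x) (φ g y) ↔ R x y
  φ_β : ∀ g p, φ g (β p) = β (ιG g p)

namespace Setting

variable {Ω : Type*} [Fintype Ω] [DecidableEq Ω] {R : Ω → Ω → Prop} [DecidableRel R] (D : Setting Ω R)

/-- A five-clique: the vertex and the four points of a line. -/
noncomputable def five (k : Fin 280) : Fin 5 → Ω := Fin.cons D.a fun i => D.β (lineP k i)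

theorem line_adj (k : Fin 280) {i j : Fin 4} (h : i ≠ j) :
    R (D.β (lineP k i)) (D.β (lineP k j)) := by
  rcases lt_or_gt_of_ne h with h | h
  · exact D.symm _ _ ((D.β_col _ _).2 (line_col (k := k) (i := j) (i' := i) h).1)
  · exact (D.β_col _ _).2 (line_col (k := k) h).1

theorem five_adj (k : Fin 280) : ∀ i j, i ≠ j → R (D.five k i) (D.five k j) := by
  intro i j h
  induction i using Fin.cases with
  | zero =>
    induction j using Fin.cases with
    | zero => exact absurd rfl h
    | succ j => exact D.β_adj _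
  | succ i =>
    induction j using Fin.cases with
    | zero => exact D.symm _ _ (D.β_adj _)
    | succ j => exact D.line_adj k fun e => h (congrArg Fin.succ e)

theorem five_inj (k : Fin 280) : Function.Injective (D.five k) := fun i j e => by
  by_contra h
  have := D.five_adj k i j h
  rw [e] at this
  exact D.irrefl _ this

/-- The indicator of adjacency. -/
def ind (x y : Ω) : ℤ := if R x y then 1 else 0

include D in
theorem sum_ind (x : Ω) : (∑ y, ind (R := R) x y) = (112 : ℤ) := by
  simp [ind, D.deg x]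

theorem sum_ind_two (x y : Ω) :
    (∑ z, ind (R := R) x z * ind (R := R) y z) = ((Finset.univ.filter fun z => R x z ∧ R y z).card : ℤ) := by
  rw [Finset.card_filter, Nat.cast_sum]
  refine Finset.sum_congr rfl fun z _ => ?_
  by_cases h1 : R x z <;> by_cases h2 : R y z <;> simp [ind, h1, h2]

/-- The number of neighbours of a vertex in the clique. -/
noncomputable def fc (k : Fin 280) (z : Ω) : ℤ := ∑ i, ind (R := R) (D.five k i) z

theorem fc_five (k : Fin 280) (i : Fin 5) : D.fc k (D.five k i) = 4 := by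
  have h : ∀ j, ind (R := R) (D.five k j) (D.five k i) = if j = i then 0 else 1 := fun j => by
    by_cases e : j = i
    · subst e; simp [ind, D.irrefl]
    · simp [ind, e, D.five_adj k j i e]
  rw [fc, Finset.sum_congr rfl fun j _ => h j]
  fin_cases i <;> simp [Fin.sum_univ_five]

theorem fc_eq_two (k : Fin 280) {z : Ω} (hz : ∀ i, z ≠ D.five k i) : D.fc k z = 2 := by
  have h1 : (∑ z, D.fc k z) = 560 := by
    simp only [fc]
    rw [Finset.sum_comm, Finset.sum_congr rfl fun i _ => D.sum_ind (D.five k i)]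
    simp
  have h2 : (∑ z, D.fc k z ^ 2) = 1160 := by
    simp only [fc, sq, Finset.sum_mul, Finset.mul_sum]
    rw [Finset.sum_comm]
    have : ∀ i, (∑ z, ∑ j, ind (R := R) (D.five k j) z * ind (R := R) (D.five k i) z) = (232 : ℤ) := by
      intro i
      rw [Finset.sum_comm]
      have hh : ∀ j, (∑ z, ind (R := R) (D.five k j) z * ind (R := R) (D.five k i) z) =
          if j = i then (112 : ℤ) else 30 := by
        intro j
        rw [sum_ind_two]
        by_cases e : j = i
        · subst e; simp [D.deg]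
        · simp [e, D.lam _ _ (D.five_adj k j i e)]
      rw [Finset.sum_congr rfl fun j _ => hh j]
      fin_cases i <;> simp [Fin.sum_univ_five]
    rw [Finset.sum_congr rfl fun i _ => this i]
    simp
  have h3 : (∑ z, (D.fc k z - 2) ^ 2) = 20 := by
    have e : ∀ z, (D.fc k z - 2) ^ 2 = D.fc k z ^ 2 - 4 * D.fc k z + 4 := fun z => by ring
    rw [Finset.sum_congr rfl fun z _ => e z, Finset.sum_add_distrib, Finset.sum_sub_distrib,
      ← Finset.mul_sum, h1, h2]
    simp [D.card]
  set X := Finset.univ.image (D.five k)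
  have hX : (∑ z ∈ X, (D.fc k z - 2) ^ 2) = 20 := by
    rw [Finset.sum_image fun i _ j _ e => D.five_inj k e,
      Finset.sum_congr rfl fun i _ => by rw [D.fc_five k i]]
    simp
  rw [← Finset.sum_add_sum_compl X, hX, add_eq_left,
    Finset.sum_eq_zero_iff_of_nonneg fun z _ => sq_nonneg _] at h3
  have := h3 z (by
    simp only [X, Finset.mem_compl, Finset.mem_image, Finset.mem_univ, true_and, not_exists]
    exact fun i => (hz i).symm)
  rw [sq_eq_zero_iff, sub_eq_zero] at this
  exact this

/-- A vertex at distance two from the chosen one. -/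
def Distant (c : Ω) : Prop := c ≠ D.a ∧ ¬ R D.a c

/-- The trace of a vertex on the neighbourhood. -/
def trace (c : Ω) (p : Fin 112) : Bool := decide (R (D.β p) c)

theorem hemi_trace {c : Ω} (hc : D.Distant c) : Hemi (D.trace c) := by
  intro k
  have h := D.fc_eq_two k (z := c) fun i => by
    induction i using Fin.cases with
    | zero => exact hc.1
    | succ i => exact fun e => hc.2 (e ▸ D.β_adj _)
  rw [fc, Fin.sum_univ_succ] at h
  have h0 : ind (R := R) D.a c = 0 := if_neg hc.2
  rw [show D.five k 0 = D.a from rfl, h0, zero_add] at h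
  have e : (((∑ i : Fin 4, if D.trace c (lineP k i) = true then 1 else 0) : ℕ) : ℤ) = 2 := by
    rw [← h, Nat.cast_sum]
    refine Finset.sum_congr rfl fun i _ => ?_
    rw [show D.five k i.succ = D.β (lineP k i) from rfl]
    by_cases e : R (D.β (lineP k i)) c <;> simp [trace, ind, e]
  exact_mod_cast e

theorem card_distant : (Finset.univ.filter fun c => c ≠ D.a ∧ ¬ R D.a c).card = 162 := by
  have h : (Finset.univ.filter fun c => c ≠ D.a ∧ ¬ R D.a c) =
      (insert D.a (Finset.univ.filter fun c => R D.a c))ᶜ := by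
    ext c
    simp [not_or]
  rw [h, Finset.card_compl, Finset.card_insert_of_notMem (by simp [D.irrefl]), D.deg, D.card]

theorem exists_distant : ∃ c, D.Distant c := by
  obtain ⟨c, hc⟩ := Finset.card_pos.1 (by rw [D.card_distant]; norm_num :
    0 < (Finset.univ.filter fun c => c ≠ D.a ∧ ¬ R D.a c).card)
  exact ⟨c, (Finset.mem_filter.1 hc).2⟩

theorem trace_φ (g : U62.G) (c : Ω) (p : Fin 112) : D.trace (D.φ g c) (ιG g p) = D.trace c p := by
  simp only [trace]
  rw [← D.φ_β, decide_eq_decide]
  exact D.φ_adj g _ _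

theorem distant_φ {c : Ω} (hc : D.Distant c) (g : U62.G) : D.Distant (D.φ g c) :=
  ⟨fun e => hc.1 ((D.φ g).injective (e.trans (D.φ_fix g).symm)),
    fun e => hc.2 (by rwa [← D.φ_fix g, D.φ_adj] at e)⟩

theorem exists_family : ∃ (j : Fin 4) (c : Fin 162 → Ω),
    (∀ i, D.Distant (c i)) ∧ ∀ i, D.trace (c i) = orbMem j i := by
  obtain ⟨c0, hc0⟩ := D.exists_distant
  obtain ⟨j, l, hl⟩ := hemi_classify (D.hemi_trace hc0)
  refine ⟨j, fun i => D.φ (orbEl j i * (orbEl j l)⁻¹) c0, fun i => D.distant_φ hc0 _,
    fun i => funext fun q => ?_⟩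
  obtain ⟨p, rfl⟩ := (ιG (orbEl j i)).surjective q
  rw [orb_spec, ← orb_spec j l p, ← hl]
  have h := D.trace_φ (orbEl j i * (orbEl j l)⁻¹) c0 (ιG (orbEl j l) p)
  rwa [← Equiv.Perm.mul_apply, ← map_mul, inv_mul_cancel_right] at h

theorem orb_inter (j : Fin 4) (i k : Fin 162) :
    (Finset.univ.filter fun p => orbMem j i p = true ∧ orbMem j k p = true).card =
      (Finset.univ.filter fun p => orbMem 0 i p = true ∧ orbMem 0 k p = true).card := by
  refine Finset.card_equiv (thetaE j).symm fun p => ?_
  obtain ⟨q, rfl⟩ := (thetaE j).surjective p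
  simp [thetaE_orb]

theorem orb_inj (j : Fin 4) {i k : Fin 162} (h : orbMem j i = orbMem j k) : i = k := by
  by_contra hne
  obtain ⟨-, -, h56, hk⟩ := inter_facts i
  have e := hk k (Ne.symm hne)
  rw [← orb_inter j] at e
  rw [← h] at e
  simp only [and_self] at e
  have e2 := orb_inter j i i
  simp only [and_self] at e2
  rw [e2, h56] at e
  split_ifs at e <;> omega

theorem adj_family {j : Fin 4} {c : Fin 162 → Ω} (hd : ∀ i, D.Distant (c i))
    (ht : ∀ i, D.trace (c i) = orbMem j i) :
    Function.Injective c ∧ (∀ x, D.Distant x → ∃ i, c i = x) ∧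
      ∀ i k, R (c i) (c k) ↔ Adj0 (vC i) (vC k) := by
  have hinj : Function.Injective c := fun i k e => orb_inj j (by rw [← ht i, ← ht k, e])
  have hsurj : ∀ x, D.Distant x → ∃ i, c i = x := by
    intro x hx
    have himg : Finset.univ.image c = Finset.univ.filter fun c => c ≠ D.a ∧ ¬ R D.a c :=
      Finset.eq_of_subset_of_card_le (fun y hy => by
          obtain ⟨i, -, rfl⟩ := Finset.mem_image.1 hy
          exact Finset.mem_filter.2 ⟨Finset.mem_univ _, hd i⟩)
        (by rw [D.card_distant, Finset.card_image_of_injective _ hinj, Finset.card_univ, Fintype.card_fin])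
    have : x ∈ Finset.univ.image c := himg ▸ Finset.mem_filter.2 ⟨Finset.mem_univ _, hx⟩
    obtain ⟨i, -, e⟩ := Finset.mem_image.1 this
    exact ⟨i, e⟩
  refine ⟨hinj, hsurj, fun i k => ?_⟩
  obtain ⟨h56, hself, -, hinter⟩ := inter_facts i
  set N := Finset.univ.filter fun k : Fin 162 => R (c i) (c k)
  have hsub : N ⊆ Finset.univ.filter fun k : Fin 162 => adjB (Nat.add 112 i) (Nat.add 112 k) = true := by
    intro k hk
    have hR := (Finset.mem_filter.1 hk).2
    refine Finset.mem_filter.2 ⟨Finset.mem_univ _, ?_⟩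
    by_contra hadj
    have hne : k ≠ i := fun e => D.irrefl _ (e ▸ hR)
    have h32 := hinter k hne
    rw [if_neg hadj, ← orb_inter j] at h32
    have hle : (Finset.univ.filter fun p => orbMem j i p = true ∧ orbMem j k p = true).card ≤
        (Finset.univ.filter fun z => R (c i) z ∧ R (c k) z).card := by
      refine Finset.card_le_card_of_injOn D.β (fun p hp => ?_) D.β_inj.injOn
      rw [Finset.mem_coe, Finset.mem_filter] at hp ⊢
      refine ⟨Finset.mem_univ _, D.symm _ _ ?_, D.symm _ _ ?_⟩
      · simpa [trace] using (congrFun (ht i) p).trans hp.2.1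
      · simpa [trace] using (congrFun (ht k) p).trans hp.2.2
    rw [h32, D.lam _ _ hR] at hle
    omega
  have hN : 56 ≤ N.card := by
    have hsplit := Finset.card_filter_add_card_filter_not (s := Finset.univ.filter fun z => R (c i) z) (R D.a)
    rw [D.deg] at hsplit
    have hB : ((Finset.univ.filter fun z => R (c i) z).filter (R D.a)).card = 56 := by
      rw [← D.mu _ _ (hd i).1 fun e => (hd i).2 (D.symm _ _ e)]
      congr 1
      ext z
      simp
    have hC : ((Finset.univ.filter fun z => R (c i) z).filter fun z => ¬ R D.a z).card ≤ N.card := by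
      refine le_trans (Finset.card_le_card (t := N.image c) fun z hz => ?_) Finset.card_image_le
      simp only [Finset.mem_filter, Finset.mem_univ, true_and] at hz
      obtain ⟨k, rfl⟩ := hsurj z ⟨fun e => (hd i).2 (D.symm _ _ (e ▸ hz.1)), hz.2⟩
      exact Finset.mem_image_of_mem _ (Finset.mem_filter.2 ⟨Finset.mem_univ _, hz.1⟩)
    omega
  have heq := Finset.eq_of_subset_of_card_le hsub (by rw [h56]; exact hN)
  have := Finset.ext_iff.1 heq k
  simpa [N, Adj0, vC] using this

include D in
theorem exists_iso : ∃ v : Fin 275 → Ω, Function.Bijective v ∧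
    ∀ x y, R (v x) (v y) ↔ Adj0 x y := by
  obtain ⟨j, c, hd, ht⟩ := D.exists_family
  obtain ⟨hinj, -, hadj⟩ := D.adj_family hd ht
  have htr : ∀ i p, R (D.β (thetaE j p)) (c i) ↔ orbMem 0 i p = true := fun i p => by
    rw [← thetaE_orb j, ← ht i]
    simp [trace]
  let v : Fin 275 → Ω := fun x =>
    if h : (x : ℕ) < 112 then D.β (thetaE j ⟨x, h⟩)
    else if h' : (x : ℕ) < 274 then c ⟨x - 112, by omega⟩ else D.a
  have hP : ∀ p, v (vP p) = D.β (thetaE j p) := fun p => dif_pos p.2
  have hC : ∀ i, v (vC i) = c i := fun i => by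
    have := i.2
    simp only [v, vC]
    rw [dif_neg (by omega), dif_pos (by omega)]
    exact congrArg c (Fin.ext (by simp))
  have hI : v vI = D.a := by simp [v, vI]
  have hcases : ∀ x : Fin 275, (∃ p, x = vP p) ∨ (∃ i, x = vC i) ∨ x = vI := by
    intro x
    rcases Nat.lt_or_ge (x : ℕ) 112 with h | h
    · exact Or.inl ⟨⟨x, h⟩, rfl⟩
    rcases Nat.lt_or_ge (x : ℕ) 274 with h' | h'
    · exact Or.inr (Or.inl ⟨⟨x - 112, by omega⟩, Fin.ext (by simp [vC]; omega)⟩)
    · exact Or.inr (Or.inr (Fin.ext (by simp [vI]; omega)))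
  have hiff : ∀ x y, R (v x) (v y) ↔ Adj0 x y := by
    intro x y
    rcases hcases x with ⟨p, rfl⟩ | ⟨i, rfl⟩ | rfl <;> rcases hcases y with ⟨q, rfl⟩ | ⟨k, rfl⟩ | rfl <;>
      simp only [hP, hC, hI]
    · rw [(row_point p).2.2.1 q, D.β_col, thetaE_col]
    · rw [((row_point p).2.2.2 k).1, htr]
    · exact ⟨fun _ => (row_point p).1, fun _ => D.symm _ _ (D.β_adj _)⟩
    · rw [((row_point q).2.2.2 i).2, ← htr]
      exact ⟨D.symm _ _, D.symm _ _⟩
    · exact hadj i k
    · exact iff_of_false (fun e => (hd i).2 (D.symm _ _ e)) (row_last.2 i).2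
    · exact ⟨fun _ => (row_point q).2.1, fun _ => D.β_adj _⟩
    · exact iff_of_false (hd k).2 (row_last.2 k).1
    · exact iff_of_false (D.irrefl _) row_last.1
  refine ⟨v, (Fintype.bijective_iff_injective_and_card v).2 ⟨fun x y e => ?_, by simp [D.card]⟩, hiff⟩
  rcases hcases x with ⟨p, rfl⟩ | ⟨i, rfl⟩ | rfl <;> rcases hcases y with ⟨q, rfl⟩ | ⟨k, rfl⟩ | rfl <;>
    simp only [hP, hC, hI] at e
  · rw [(thetaE j).injective (D.β_inj e)]
  · exact absurd (e ▸ D.β_adj _) (hd k).2
  · exact absurd (e ▸ D.β_adj _) (D.irrefl _)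
  · exact absurd (e ▸ D.β_adj _) (hd i).2
  · rw [hinj e]
  · exact absurd e (hd i).1
  · exact absurd (e ▸ D.β_adj _) (D.irrefl _)
  · exact absurd e.symm (hd k).1
  · rfl

end Setting

end Cfsg.Agent.McLRank
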