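import Cfsg.Agent.McLRank.Stab
import Cfsg.Agent.McLRank.Local
import Cfsg.Agent.McLRank.Aut
import Cfsg.Prelude.Def_Spor_Conway

/-!
# Rank three groups on 275 points with point stabiliser PSU(4,3)
-/

set_option autoImplicit false

namespace Cfsg.Agent.McLRank

open MulAction Cfsg.Agent.Compute Cfsg.Agent.StemCert Cfsg.Agent.U62

theorem col_count : (Finset.univ.filter fun q : Fin 112 => Col p0 q).card = 30 := by
  have h : countB 112 (colB 72) = 30 := by decide +kernel
  rw [← h, countB_eq]
  exact congrArg Finset.card (Finset.filter_congr fun q _ => Iff.rfl)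

theorem col_or_far (q : Fin 112) : q = p0 ∨ Col p0 q ∨ Far q := by
  by_cases h1 : q = p0
  · exact Or.inl h1
  by_cases h2 : Col p0 q
  · exact Or.inr (Or.inl h2)
  exact Or.inr (Or.inr ⟨h1, h2⟩)

/-- A set invariant under the stabiliser, avoiding the base point, is one of four sets. -/
theorem invariant_set (N : Finset (Fin 112)) (h0 : p0 ∉ N)
    (hN : ∀ x ∈ Stab0, ∀ q, ιG x q ∈ N ↔ q ∈ N) :
    N.card = 0 ∨ (N.card = 30 ∧ ∀ q, q ∈ N ↔ Col p0 q) ∨ N.card = 81 ∨
      (N.card = 111 ∧ ∀ q, q ≠ p0 → q ∈ N) := by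
  classical
  have hcol : (∀ q, Col p0 q → q ∈ N) ∨ ∀ q, Col p0 q → q ∉ N := by
    by_cases h : ∃ q, Col p0 q ∧ q ∈ N
    · obtain ⟨q, hq, hqN⟩ := h
      refine Or.inl fun r hr => ?_
      obtain ⟨x, hx, rfl⟩ := exists_stab hq hr
      exact (hN x hx q).2 hqN
    · exact Or.inr fun q hq hqN => h ⟨q, hq, hqN⟩
  have hfar : (∀ q, Far q → q ∈ N) ∨ ∀ q, Far q → q ∉ N := by
    by_cases h : ∃ q, Far q ∧ q ∈ N
    · obtain ⟨q, hq, hqN⟩ := h
      refine Or.inl fun r hr => ?_
      obtain ⟨x, hx, rfl⟩ := far_orbit hq hr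
      exact (hN x (Er_le_Stab0 hx) q).2 hqN
    · exact Or.inr fun q hq hqN => h ⟨q, hq, hqN⟩
  rcases hcol with hc | hc <;> rcases hfar with hf | hf
  · refine Or.inr (Or.inr (Or.inr ⟨?_, fun q hq => (col_or_far q).elim (absurd · hq)
      fun h => h.elim (hc q) (hf q)⟩))
    have : N = Finset.univ.erase p0 := by
      ext q
      simp only [Finset.mem_erase, Finset.mem_univ, and_true]
      refine ⟨fun h e => h0 (e ▸ h), fun hq => ?_⟩
      rcases col_or_far q with h | h | h
      exacts [absurd h hq, hc q h, hf q h]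
    rw [this, Finset.card_erase_of_mem (Finset.mem_univ _), Finset.card_univ, Fintype.card_fin]
  · have hiff : ∀ q, q ∈ N ↔ Col p0 q := fun q => ⟨fun h => by
      rcases col_or_far q with e | e | e
      exacts [absurd (e ▸ h) h0, e, absurd h (hf q e)], hc q⟩
    refine Or.inr (Or.inl ⟨?_, hiff⟩)
    rw [← col_count]
    congr 1
    ext q
    simp [hiff]
  · refine Or.inr (Or.inr (Or.inl ?_))
    rw [← card_far]
    congr 1
    ext q
    rw [Finset.mem_filter, farB_iff]
    refine ⟨fun h => ⟨Finset.mem_univ _, ?_⟩, fun h => hf q h.2⟩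
    rcases col_or_far q with e | e | e
    exacts [absurd (e ▸ h) h0, absurd h (hc q e), e]
  · refine Or.inl (Finset.card_eq_zero.2 (Finset.eq_empty_of_forall_notMem fun q h => ?_))
    rcases col_or_far q with e | e | e
    exacts [h0 (e ▸ h), hc q e h, hf q e h]

theorem lam_cases {l m : ℕ} (h : 112 * (111 - l) = 162 * m)
    (hl : l = 0 ∨ l = 30 ∨ l = 81 ∨ l = 111) : (l = 30 ∧ m = 56) ∨ (l = 111 ∧ m = 0) := by
  omega

theorem not_dvd_factorial : ¬ 898128000 ∣ Nat.factorial 14 := by decide +kernel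

theorem le_of_simple {A B : Subgroup (Equiv.Perm (Fin 275))} (hA : A ≤ Aut0) (hB : B ≤ Aut0)
    (hcA : Nat.card A = 898128000) (hcB : Nat.card B = 898128000) [IsSimpleGroup B] : B ≤ A := by
  classical
  let A' := A.subgroupOf Aut0
  have hcA' : Nat.card A' = 898128000 :=
    (Nat.card_congr (Subgroup.subgroupOfEquivOfLe hA).toEquiv).trans hcA
  have hk : Nat.card (↥Aut0 ⧸ A') ≤ 14 := by
    have h := A'.card_mul_index
    rw [hcA'] at h
    have := card_Aut0
    rw [Subgroup.index] at h
    omega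
  let φ : ↥B →* Equiv.Perm (↥Aut0 ⧸ A') :=
    (MulAction.toPermHom ↥Aut0 (↥Aut0 ⧸ A')).comp (Subgroup.inclusion hB)
  rcases (MonoidHom.normal_ker φ).eq_bot_or_eq_top with hbot | htop
  · exfalso
    have hinj : Function.Injective φ := (MonoidHom.ker_eq_bot_iff φ).1 hbot
    have hd := Subgroup.card_dvd_of_injective φ hinj
    rw [hcB, Nat.card_perm] at hd
    exact not_dvd_factorial (hd.trans (Nat.factorial_dvd_factorial hk))
  · intro x hx
    have h : φ ⟨x, hx⟩ = 1 := MonoidHom.mem_ker.1 (by rw [htop]; trivial)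
    have h1 : φ ⟨x, hx⟩ ((1 : ↥Aut0) : ↥Aut0 ⧸ A') = ((1 : ↥Aut0) : ↥Aut0 ⧸ A') := by rw [h]; rfl
    have h2 : (((Subgroup.inclusion hB ⟨x, hx⟩) * 1 : ↥Aut0) : ↥Aut0 ⧸ A') = ((1 : ↥Aut0) : ↥Aut0 ⧸ A') := h1
    have h3 := QuotientGroup.eq.1 h2.symm
    rw [inv_one, one_mul, mul_one] at h3
    exact Subgroup.mem_subgroupOf.1 h3

set_option maxHeartbeats 1000000 in
theorem main {Ω : Type*} [Fintype Ω] [DecidableEq Ω] (hΩ : Fintype.card Ω = 275)
    (G : Subgroup (Equiv.Perm Ω)) [IsPretransitive G Ω] (a : Ω)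
    (ε : U62.G ≃* stabilizer G a) (b c : Ω)
    (hb : (orbit (stabilizer G a) b).ncard = 112) (hc : (orbit (stabilizer G a) c).ncard = 162) :
    Cfsg.Spor.IsoMcL G := by
  classical
  have hst : Nat.card (stabilizer G a) = 3265920 :=
    (Nat.card_congr ε.symm.toEquiv).trans UnitMult.FourThree.card_group
  let R : Ω → Ω → Prop := fun x y => ∃ g : G, g • a = x ∧ g • b = y
  have hRa : ∀ y, R a y ↔ y ∈ orbit (stabilizer G a) b := fun y =>
    ⟨fun ⟨g, hg, hy⟩ => ⟨⟨g, hg⟩, hy⟩, fun ⟨⟨g, hg⟩, hy⟩ => ⟨g, hg, hy⟩⟩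
  have hRg : ∀ (g : G) x y, R (g • x) (g • y) ↔ R x y := fun g x y =>
    ⟨fun ⟨k, h1, h2⟩ => ⟨g⁻¹ * k, by rw [mul_smul, h1, inv_smul_smul],
      by rw [mul_smul, h2, inv_smul_smul]⟩,
    fun ⟨k, h1, h2⟩ => ⟨g * k, by rw [mul_smul, h1], by rw [mul_smul, h2]⟩⟩
  -- the orbits of the stabiliser
  have hdis : ∀ {x y : Ω}, (orbit (stabilizer G a) x).ncard ≠ (orbit (stabilizer G a) y).ncard →
      Disjoint (orbit (stabilizer G a) x) (orbit (stabilizer G a) y) := by
    intro x y hxy
    rw [Set.disjoint_left]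
    intro z hzx hzy
    exact hxy (by rw [← orbit_eq_iff.2 hzx, ← orbit_eq_iff.2 hzy])
  have horba : orbit (stabilizer G a) a = {a} := Set.Subset.antisymm
    (by rintro _ ⟨⟨g, hg⟩, rfl⟩; exact hg) (Set.singleton_subset_iff.2 (mem_orbit_self a))
  have hna : ∀ {x : Ω}, (orbit (stabilizer G a) x).ncard ≠ 1 →
      a ∉ orbit (stabilizer G a) x := fun hx h => hx (by
    rw [← orbit_eq_iff.2 h, horba, Set.ncard_singleton])
  have hcover : ∀ x, x ≠ a → x ∈ orbit (stabilizer G a) b ∨ x ∈ orbit (stabilizer G a) c := by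
    have hu : insert a (orbit (stabilizer G a) b ∪ orbit (stabilizer G a) c) = Set.univ := by
      refine Set.eq_of_subset_of_ncard_le (Set.subset_univ _) ?_ (Set.toFinite _)
      rw [Set.ncard_insert_of_notMem (fun h => h.elim (hna (by rw [hb]; norm_num))
          (hna (by rw [hc]; norm_num))) (Set.toFinite _),
        Set.ncard_union_eq (hdis (by rw [hb, hc]; norm_num)) (Set.toFinite _) (Set.toFinite _),
        hb, hc, Set.ncard_univ, Nat.card_eq_fintype_card, hΩ]
    intro x hx
    have hmem : x ∈ insert a (orbit (stabilizer G a) b ∪ orbit (stabilizer G a) c) := by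
      rw [hu]; trivial
    exact (Set.mem_insert_iff.1 hmem).resolve_left hx
  -- out and in neighbourhoods
  have hout : ∀ x, (Finset.univ.filter fun y => R x y).card = 112 := by
    intro x
    obtain ⟨g, rfl⟩ := exists_smul_eq G a x
    have h1 : (Finset.univ.filter fun y => R (g • a) y) =
        (Finset.univ.filter fun y => R a y).image (g • ·) := by
      ext y
      simp only [Finset.mem_filter, Finset.mem_univ, true_and, Finset.mem_image]
      exact ⟨fun h => ⟨g⁻¹ • y, (hRg g a _).1 (by rwa [smul_inv_smul]), smul_inv_smul g y⟩,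
        fun ⟨z, hz, e⟩ => e ▸ (hRg g a z).2 hz⟩
    rw [h1, Finset.card_image_of_injective _ (MulAction.injective g), ← hb,
      Set.ncard_eq_toFinset_card']
    congr 1
    ext y
    simp [hRa]
  have hin : ∀ y, (Finset.univ.filter fun x => R x y).card = 112 := by
    have hconst : ∀ y, (Finset.univ.filter fun x => R x y).card =
        (Finset.univ.filter fun x => R x a).card := by
      intro y
      obtain ⟨g, rfl⟩ := exists_smul_eq G a y
      have h1 : (Finset.univ.filter fun x => R x (g • a)) =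
          (Finset.univ.filter fun x => R x a).image (g • ·) := by
        ext x
        simp only [Finset.mem_filter, Finset.mem_univ, true_and, Finset.mem_image]
        exact ⟨fun h => ⟨g⁻¹ • x, (hRg g _ a).1 (by rwa [smul_inv_smul]), smul_inv_smul g x⟩,
          fun ⟨z, hz, e⟩ => e ▸ (hRg g z a).2 hz⟩
      rw [h1, Finset.card_image_of_injective _ (MulAction.injective g)]
    have hdc : ∑ x : Ω, (Finset.univ.filter fun y => R x y).card =
        ∑ y : Ω, (Finset.univ.filter fun x => R x y).card := by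
      simp only [Finset.card_filter]
      exact Finset.sum_comm
    rw [Finset.sum_congr rfl fun x _ => hout x, Finset.sum_congr rfl fun y _ => hconst y,
      Finset.sum_const, Finset.sum_const, Finset.card_univ, hΩ, smul_eq_mul, smul_eq_mul] at hdc
    intro y
    rw [hconst y]
    omega
  have hne : ∀ x y, R x y → x ≠ y := by
    rintro x y ⟨g, rfl, rfl⟩ he
    have hab : a = b := MulAction.injective g he
    rw [← hab, horba, Set.ncard_singleton] at hb
    omega
  have hsa : ∀ y, R y a → R a y := by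
    intro y hy
    have hinv : ∀ z ∈ orbit (stabilizer G a) y, R z a := by
      rintro _ ⟨⟨g, hg⟩, rfl⟩
      have := (hRg g y a).2 hy
      rwa [show g • a = a from hg] at this
    rcases hcover y (hne y a hy) with h | h
    · exact (hRa y).2 h
    · exfalso
      have h1 : (orbit (stabilizer G a) c).ncard ≤ 112 := by
        rw [← orbit_eq_iff.2 h, ← hin a, ← Set.ncard_coe_finset]
        exact Set.ncard_le_ncard (fun z hz => Finset.mem_coe.2
          (Finset.mem_filter.2 ⟨Finset.mem_univ _, hinv z hz⟩)) (Finset.finite_toSet _)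
      omega
  have hsymm : ∀ x y, R x y → R y x := by
    intro x y h
    obtain ⟨g, rfl⟩ := exists_smul_eq G a y
    rw [← smul_inv_smul g x] at h ⊢
    exact (hRg g a _).2 (hsa _ ((hRg g _ a).1 h))
  -- common neighbours
  let cn : Ω → Ω → ℕ := fun x y => (Finset.univ.filter fun z => R x z ∧ R y z).card
  have hmove : ∀ (g : G) x y, cn (g • x) (g • y) = cn x y := by
    intro g x y
    symm
    refine Finset.card_equiv (MulAction.toPerm g) fun z => ?_
    simp only [Finset.mem_filter, Finset.mem_univ, true_and, MulAction.toPerm_apply, hRg]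
  have hlam : ∀ x y, R x y → cn x y = cn a b := by
    rintro x y ⟨g, rfl, rfl⟩
    exact hmove g a b
  have hmuA : ∀ y, y ≠ a → ¬ R a y → cn a y = cn a c := by
    intro y h1 h2
    rcases hcover y h1 with h | ⟨⟨k, hk⟩, rfl⟩
    · exact absurd ((hRa y).2 h) h2
    · show cn a (k • c) = _
      conv_rhs => rw [← hmove k a c, show k • a = a from hk]
  have hmu : ∀ x y, x ≠ y → ¬ R x y → cn x y = cn a c := by
    intro x y h1 h2
    obtain ⟨g, rfl⟩ := exists_smul_eq G a x
    rw [← smul_inv_smul g y] at h1 h2 ⊢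
    rw [hmove g a]
    exact hmuA _ (fun e => h1 (by rw [e])) fun e => h2 ((hRg g a _).2 e)
  -- the numbering of the neighbourhood
  let φ : U62.G →* Equiv.Perm Ω :=
    G.subtype.comp ((stabilizer G a).subtype.comp ε.toMonoidHom)
  have hφg : ∀ x z, φ x z = (ε x : G) • z := fun _ _ => rfl
  have hφa : ∀ x, φ x a = a := fun x => (ε x).2
  have hφR : ∀ x y z, R (φ x y) (φ x z) ↔ R y z := fun x y z => hRg (ε x : G) y z
  let H : Subgroup U62.G := (stabilizer (stabilizer G a) b).comap ε.toMonoidHom
  have hH : Nat.card H = 29160 := by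
    have h1 := (stabilizer (stabilizer G a) b).card_mul_index
    rw [index_stabilizer, hb, hst] at h1
    rw [Nat.card_congr (ε.toEquiv.subtypeEquiv (p := fun x => x ∈ H)
      (q := fun y => y ∈ stabilizer (stabilizer G a) b) fun x => Iff.rfl)]
    omega
  obtain ⟨g0, hg0⟩ := exists_conj_Stab0 H hH
  have hHm : ∀ x, x ∈ H ↔ φ x b = b := fun x => Iff.rfl
  let b1 := φ g0 b
  have hb1 : ∀ x, φ x b1 = b1 ↔ x ∈ Stab0 := by
    intro x
    rw [← hg0, Subgroup.mem_map_equiv, hHm, MulAut.conj_symm_apply, map_mul, map_mul, map_inv,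
      Equiv.Perm.mul_apply, Equiv.Perm.mul_apply, Equiv.Perm.inv_eq_iff_eq]
  let w : Fin 112 → U62.G := fun p => evalW gG (repWords.getD p [])
  have hw : ∀ p, ιG (w p) p0 = p := ι_word_base
  let β : Fin 112 → Ω := fun p => φ (w p) b1
  have hβeq : ∀ g p, φ g (β p) = β (ιG g p) := by
    intro g p
    have h : φ ((w (ιG g p))⁻¹ * g * w p) b1 = b1 := (hb1 _).2 (by
      show ιG _ p0 = p0
      rw [map_mul, map_mul, map_inv, Equiv.Perm.mul_apply, Equiv.Perm.mul_apply, hw,
        Equiv.Perm.inv_eq_iff_eq, hw])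
    rw [map_mul, map_mul, map_inv, Equiv.Perm.mul_apply, Equiv.Perm.mul_apply,
      Equiv.Perm.inv_eq_iff_eq] at h
    exact h
  have hβinj : Function.Injective β := by
    intro p q e
    have h : (w q)⁻¹ * w p ∈ Stab0 := (hb1 _).1 (by
      rw [map_mul, map_inv, Equiv.Perm.mul_apply, Equiv.Perm.inv_eq_iff_eq]
      exact e)
    have h' : ιG ((w q)⁻¹ * w p) p0 = p0 := h
    rw [map_mul, map_inv, Equiv.Perm.mul_apply, hw, Equiv.Perm.inv_eq_iff_eq, hw] at h'
    exact h'
  have hβadj : ∀ p, R a (β p) := by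
    intro p
    refine (hRa _).2 ⟨ε (w p * g0), ?_⟩
    show φ (w p * g0) b = _
    rw [map_mul]
    rfl
  have hβimg : Finset.univ.image β = Finset.univ.filter fun y => R a y :=
    Finset.eq_of_subset_of_card_le (fun y hy => by
        obtain ⟨p, -, rfl⟩ := Finset.mem_image.1 hy
        exact Finset.mem_filter.2 ⟨Finset.mem_univ _, hβadj p⟩)
      (by rw [hout, Finset.card_image_of_injective _ hβinj, Finset.card_univ, Fintype.card_fin])
  have hβsurj : ∀ y, R a y → ∃ p, β p = y := by
    intro y hy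
    have : y ∈ Finset.univ.image β := hβimg ▸ Finset.mem_filter.2 ⟨Finset.mem_univ _, hy⟩
    obtain ⟨p, -, e⟩ := Finset.mem_image.1 this
    exact ⟨p, e⟩
  -- the neighbourhood of a neighbour
  let N := Finset.univ.filter fun q => R (β p0) (β q)
  have hNinv : ∀ x ∈ Stab0, ∀ q, ιG x q ∈ N ↔ q ∈ N := by
    intro x hx q
    simp only [N, Finset.mem_filter, Finset.mem_univ, true_and]
    rw [← hβeq, show β p0 = φ x (β p0) by rw [hβeq, show ιG x p0 = p0 from hx], hφR]
    rw [hβeq, show ιG x p0 = p0 from hx]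
  have hN0 : p0 ∉ N := fun h => hne _ _ (Finset.mem_filter.1 h).2 rfl
  have hNcard : N.card = cn a b := by
    rw [← hlam a (β p0) (hβadj p0)]
    refine Finset.card_bij (fun q _ => β q) (fun q hq => ?_) (fun _ _ _ _ e => hβinj e) fun y hy => ?_
    · exact Finset.mem_filter.2 ⟨Finset.mem_univ _, hβadj q, (Finset.mem_filter.1 hq).2⟩
    · obtain ⟨-, h1, h2⟩ := Finset.mem_filter.1 hy
      obtain ⟨q, rfl⟩ := hβsurj y h1
      exact ⟨q, Finset.mem_filter.2 ⟨Finset.mem_univ _, h2⟩, rfl⟩
  let D := Finset.univ.filter fun y => y ≠ a ∧ ¬ R a y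
  have hDcard : D.card = 162 := by
    have h : D = (insert a (Finset.univ.filter fun y => R a y))ᶜ := by
      ext y
      simp [D]
    rw [h, Finset.card_compl, Finset.card_insert_of_notMem (fun h => hne a a (Finset.mem_filter.1 h).2 rfl),
      hout, hΩ]
  have hedge : 112 * (111 - cn a b) = 162 * cn a c := by
    have h1 : ∑ x ∈ Finset.univ.filter (R a), (D.filter (R x)).card = 112 * (111 - cn a b) := by
      have he : ∀ x ∈ Finset.univ.filter (R a), (D.filter (R x)).card = 111 - cn a b := by
        intro x hx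
        have hax := (Finset.mem_filter.1 hx).2
        have hsplit := Finset.card_filter_add_card_filter_not
          (s := Finset.univ.filter fun y => R x y) (R a)
        have e1 : ((Finset.univ.filter fun y => R x y).filter (R a)).card = cn a b := by
          rw [← hlam a x hax]
          congr 1
          ext z
          simp [and_comm]
        have e2 : ((Finset.univ.filter fun y => R x y).filter fun y => ¬ R a y) =
            insert a (D.filter (R x)) := by
          ext z
          simp only [D, Finset.mem_filter, Finset.mem_univ, true_and, Finset.mem_insert]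
          constructor
          · rintro ⟨h1, h2⟩
            by_cases e : z = a
            · exact Or.inl e
            · exact Or.inr ⟨⟨e, h2⟩, h1⟩
          · rintro (rfl | ⟨⟨-, h2⟩, h1⟩)
            · exact ⟨hsymm _ _ hax, fun h => hne _ _ h rfl⟩
            · exact ⟨h1, h2⟩
        rw [e1, e2, Finset.card_insert_of_notMem (by simp [D]), hout] at hsplit
        omega
      rw [Finset.sum_congr rfl he, Finset.sum_const, hout, smul_eq_mul]
    have h2 : ∑ y ∈ D, ((Finset.univ.filter (R a)).filter fun x => R x y).card = 162 * cn a c := by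
      have he : ∀ y ∈ D, ((Finset.univ.filter (R a)).filter fun x => R x y).card = cn a c := by
        intro y hy
        obtain ⟨-, h1, h2⟩ := Finset.mem_filter.1 hy
        rw [← hmuA y h1 h2]
        congr 1
        ext z
        simp only [Finset.mem_filter, Finset.mem_univ, true_and]
        exact ⟨fun h => ⟨h.1, hsymm _ _ h.2⟩, fun h => ⟨h.1, hsymm _ _ h.2⟩⟩
      rw [Finset.sum_congr rfl he, Finset.sum_const, hDcard, smul_eq_mul]
    rw [← h1, ← h2]
    simp only [Finset.card_filter]
    exact Finset.sum_comm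
  have hinv := invariant_set N hN0 hNinv
  rw [hNcard] at hinv
  obtain ⟨hl, hm⟩ : cn a b = 30 ∧ cn a c = 56 := by
    rcases lam_cases hedge (by tauto) with h | ⟨h111, hm0⟩
    · exact h
    exfalso
    -- the neighbourhood would be a clique
    have htr0 : ∀ x y, R a x → R x y → y ≠ a → R a y := by
      intro x y hax hxy hya
      by_contra h
      have hpos : 0 < cn a y := Finset.card_pos.2
        ⟨x, Finset.mem_filter.2 ⟨Finset.mem_univ _, hax, hsymm _ _ hxy⟩⟩
      rw [hmuA y hya h, hm0] at hpos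
      omega
    have htr : ∀ x y z, R x y → R y z → x ≠ z → R x z := by
      intro x y z hxy hyz hxz
      obtain ⟨g, rfl⟩ := exists_smul_eq G a x
      rw [← smul_inv_smul g y] at hxy hyz
      rw [← smul_inv_smul g z] at hyz hxz ⊢
      exact (hRg g a _).2 (htr0 _ _ ((hRg g a _).1 hxy) ((hRg g _ _).1 hyz) fun e => hxz (by rw [e]))
    let B : Ω → Finset Ω := fun x => insert x (Finset.univ.filter fun y => R x y)
    have hB : ∀ x, (B x).card = 113 := fun x => by
      rw [Finset.card_insert_of_notMem (fun h => hne x x (Finset.mem_filter.1 h).2 rfl), hout]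
    have hBm : ∀ x y, y ∈ B x ↔ y = x ∨ R x y := fun x y => by simp [B]
    have hdisj : ∀ x y, y ∉ B x → Disjoint (B x) (B y) := by
      intro x y hy
      rw [hBm, not_or] at hy
      rw [Finset.disjoint_left]
      intro z hz hz'
      rw [hBm] at hz hz'
      rcases hz with rfl | hz
      · rcases hz' with e | e
        exacts [hy.1 e.symm, hy.2 (hsymm _ _ e)]
      · rcases hz' with rfl | hz'
        exacts [hy.2 hz, hy.2 (htr x z y hz (hsymm _ _ hz') (Ne.symm hy.1))]
    obtain ⟨y, hy⟩ : ∃ y, y ∉ B a := by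
      by_contra h
      push Not at h
      have := Finset.card_le_card (fun z (_ : z ∈ Finset.univ) => h z)
      rw [hB, Finset.card_univ, hΩ] at this
      omega
    obtain ⟨z, hz⟩ : ∃ z, z ∉ B a ∪ B y := by
      by_contra h
      push Not at h
      have := Finset.card_le_card (fun w (_ : w ∈ Finset.univ) => h w)
      rw [Finset.card_union_of_disjoint (hdisj a y hy), hB, hB, Finset.card_univ, hΩ] at this
      omega
    rw [Finset.mem_union, not_or] at hz
    have hd : Disjoint (B a ∪ B y) (B z) :=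
      Finset.disjoint_union_left.2 ⟨hdisj a z hz.1, hdisj y z hz.2⟩
    have := Finset.card_le_univ (B a ∪ B y ∪ B z)
    rw [Finset.card_union_of_disjoint hd, Finset.card_union_of_disjoint (hdisj a y hy), hB, hB, hB, hΩ]
      at this
    omega
  have hNcol : ∀ q, q ∈ N ↔ Col p0 q := by
    rcases hinv with h | ⟨-, h⟩ | h | ⟨h, -⟩
    · omega
    · exact h
    · omega
    · omega
  have hβcol : ∀ p q, R (β p) (β q) ↔ Col p q := by
    intro p q
    obtain ⟨r, rfl⟩ := (ιG (w p)).surjective q
    conv_lhs => rw [show β p = φ (w p) (β p0) by rw [hβeq, hw], ← hβeq, hφR]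
    conv_rhs => rw [show Col p (ιG (w p) r) ↔ Col (ιG (w p) p0) (ιG (w p) r) by rw [hw], col_map]
    rw [← hNcol]
    simp [N]
  let S : Setting Ω R :=
    { a := a, card := hΩ, irrefl := fun x h => hne x x h rfl, symm := hsymm, deg := hout
      lam := fun x y h => (hlam x y h).trans hl
      mu := fun x y h1 h2 => (hmu x y h1 h2).trans hm
      β := β, β_inj := hβinj, β_adj := hβadj, β_surj := hβsurj, β_col := hβcol
      φ := φ, φ_fix := hφa, φ_adj := hφR, φ_β := hβeq }
  obtain ⟨v, hv, hvR⟩ := S.exists_iso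
  -- the group as automorphisms of the listed graph
  let Ψ : G →* Equiv.Perm (Fin 275) := (Equiv.ofBijective v hv).symm.permCongrHom.toMonoidHom.comp G.subtype
  have hΨinj : Function.Injective Ψ :=
    (Equiv.ofBijective v hv).symm.permCongrHom.injective.comp G.subtype_injective
  have hΨv : ∀ (g : G) x, v (Ψ g x) = g • v x := fun g x =>
    (Equiv.ofBijective v hv).apply_symm_apply _
  have hle : Ψ.range ≤ Aut0 := by
    rintro _ ⟨g, rfl⟩ x y
    rw [← hvR, ← hvR, hΨv, hΨv, hRg]
  have hcard : Nat.card G = 898128000 := by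
    have h1 := (stabilizer G a).card_mul_index
    rw [index_stabilizer_of_transitive, hst, Nat.card_eq_fintype_card, hΩ] at h1
    omega
  have hcΨ : Nat.card Ψ.range = 898128000 := by
    rw [← Nat.card_congr (MonoidHom.ofInjective hΨinj).toEquiv, hcard]
  haveI : IsSimpleGroup ψ.range := MulEquiv.isSimpleGroup (MonoidHom.ofInjective ψ_injective).symm
  have heq : ψ.range = Ψ.range :=
    Subgroup.eq_of_le_of_card_ge (le_of_simple hle ψ_range_le hcΨ card_ψ_range)
      (by rw [hcΨ, card_ψ_range])
  exact ⟨((MonoidHom.ofInjective hΨinj).trans (MulEquiv.subgroupCongr heq.symm)).trans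
    (MonoidHom.ofInjective ψ_injective).symm⟩

end Cfsg.Agent.McLRank
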