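import Cfsg.Agent.McLRank.Basic

/-!
# Subgroups of order 29160 of PSU(4,3) fix a point

Such a subgroup may be assumed to contain a Sylow three-subgroup of a point stabiliser; the orbit of
that point has at most forty members, so it is a clique, hence contained in one line.
-/

set_option autoImplicit false

namespace Cfsg.Agent.McLRank

open Cfsg.Agent.Compute Cfsg.Agent.StemCert Cfsg.Agent.U62

/-- Not collinear with the base point, and different from it. -/
def Far (q : Fin 112) : Prop := q ≠ p0 ∧ ¬ Col p0 q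

theorem farB_iff (q : Fin 112) : farB q = true ↔ Far q := by
  simp only [farB, Bool.and_eq_true, Bool.not_eq_true', natBeq_false, Far, Col, ne_eq,
    Fin.ext_iff, show ((p0 : Fin 112) : ℕ) = 72 from rfl, Bool.not_eq_true]

theorem col_symm {p q : Fin 112} (h : Col p q) : Col q p := by
  have key : ∀ a b : Fin 112, colB a b = colB b a := by
    intro a b
    have hs : allBelow 112 (fun x => allBelow 112 fun y => bEq (colB x y) (colB y x)) = true := by
      decide +kernel
    exact bEq_true_iff.1 (allBelow_eq_true.mp (allBelow_eq_true.mp hs a a.2) b b.2)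
  exact (key q p).trans h

theorem col_irrefl (p : Fin 112) : ¬ Col p p := by
  have hs : allBelow 112 (fun x => !colB x x) = true := by decide +kernel
  intro h
  have := allBelow_eq_true.mp hs p p.2
  rw [show colB p p = true from h] at this
  exact Bool.noConfusion this

theorem card_far : (Finset.univ.filter fun q : Fin 112 => farB q = true).card = 81 := by
  rw [← countB_eq]
  exact Nat.eq_of_beq_eq_true far_count

theorem er_move (t : Fin 81) (q : Fin 112) :
    (ιG (eEl (vecOf (exp4 t))) q : ℕ) = wP (eWord (exp4 t)) q := by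
  rw [← eval_eWord, wP_spec (eWord_lt _)]

theorem far_orbit {q r : Fin 112} (hq : Far q) (hr : Far r) : ∃ x ∈ Er, ιG x q = r := by
  classical
  have h := allBelow_eq_true.mp far_all q q.2
  rw [farOK, (farB_iff q).2 hq, Bool.not_true, Bool.false_or] at h
  have hfix : ∀ a : Fin 4 → ZMod 3, ιG (eEl a) q = q → a = 0 := by
    intro a ha
    obtain ⟨t, rfl⟩ := exp4_surj a
    have ht := allBelow_eq_true.mp h t t.2
    simp only [Bool.or_eq_true, Nat.beq_eq, Bool.not_eq_true', natBeq_false] at ht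
    rcases ht with ht | ht
    · rw [ht]; decide +kernel
    · exact absurd (by rw [← er_move, ha]) ht
  have hfar : ∀ a, ιG (eEl a) q ∈ Finset.univ.filter fun p : Fin 112 => farB p = true := by
    intro a
    have hp : ιG (eEl a) p0 = p0 := Er_le_Stab0 (eEl_mem a)
    rw [Finset.mem_filter, farB_iff]
    refine ⟨Finset.mem_univ _, fun e => hq.1 ((ιG (eEl a)).injective (e.trans hp.symm)), fun e => hq.2 ?_⟩
    rwa [← hp, col_map] at e
  let f : (Fin 4 → ZMod 3) → {p // p ∈ Finset.univ.filter fun p : Fin 112 => farB p = true} :=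
    fun a => ⟨ιG (eEl a) q, hfar a⟩
  have hf : Function.Bijective f := by
    refine (Fintype.bijective_iff_injective_and_card f).2 ⟨fun a b e => ?_, ?_⟩
    · have e' : ιG (eEl a) q = ιG (eEl b) q := congrArg Subtype.val e
      have hm : ιG (eEl (-b + a)) q = q := by
        rw [eEl_add, map_mul, Equiv.Perm.mul_apply, e', ← Equiv.Perm.mul_apply, ← map_mul, ← eEl_add,
          neg_add_cancel, eEl_zero, map_one]
        rfl
      exact (neg_add_eq_zero.1 (hfix _ hm)).symm
    · rw [Fintype.card_coe, card_far, Fintype.card_fun, ZMod.card, Fintype.card_fin]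
      norm_num
  obtain ⟨a, ha⟩ := hf.2 ⟨r, Finset.mem_filter.2 ⟨Finset.mem_univ _, (farB_iff r).2 hr⟩⟩
  exact ⟨eEl a, eEl_mem a, congrArg Subtype.val ha⟩

theorem line_rad {q : Fin 112} (hq : Col p0 q) :
    (Finset.univ.filter fun r => Col p0 r ∧ Col q r).card = 2 ∧
    (∀ r, Col p0 r → Col q r → ∃ x ∈ Er, ιG x q = r) ∧
    ∃ u ∈ Stab0, (ιG u ⟨lineReps.getD 0 0 % 112, Nat.mod_lt _ (by norm_num)⟩ : Fin 112) = q := by
  classical
  have h := allBelow_eq_true.mp lineRad_all q q.2
  rw [lineRadOK, show colB 72 q = true from hq, Bool.not_true, Bool.false_or] at h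
  simp only [Bool.and_eq_true, Nat.beq_eq] at h
  obtain ⟨⟨⟨h1, h2⟩, h3⟩, h4⟩ := h
  refine ⟨?_, fun r hr hqr => ?_, evalW gG (colWords.getD q []), ?_, ?_⟩
  · rw [← h1, countB_eq]
    refine congrArg Finset.card (Finset.filter_congr fun r _ => ?_)
    rw [Bool.and_eq_true]
    rfl
  · have hm := allBelow_eq_true.mp h4 r r.2
    rw [show colB 72 r = true from hr, show colB q r = true from hqr, Bool.and_true, Bool.not_true,
      Bool.false_or] at hm
    have key : ∀ n ≤ 81, Nat.rec (motive := fun _ => Bool) false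
        (fun t b => Nat.beq (wP (eWord (exp4 t)) q) r || b) n = true → ∃ t < n, wP (eWord (exp4 t)) q = r := by
      intro n
      induction n with
      | zero => intro _ e; exact Bool.noConfusion e
      | succ n ih =>
        intro hn e
        change (Nat.beq (wP (eWord (exp4 n)) q) r || _) = true at e
        rw [Bool.or_eq_true, Nat.beq_eq] at e
        rcases e with e | e
        · exact ⟨n, by omega, e⟩
        · obtain ⟨t, ht, e'⟩ := ih (by omega) e
          exact ⟨t, by omega, e'⟩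
    obtain ⟨t, ht, e⟩ := key 81 le_rfl hm
    exact ⟨_, eEl_mem _, Fin.ext ((er_move ⟨t, ht⟩ q).trans e)⟩
  · exact list_prod_mem fun y hy => by
      obtain ⟨s, hs, rfl⟩ := List.mem_map.1 hy
      exact gen_fix (lettersB_iff.1 h2 s hs)
  · refine Fin.ext ?_
    rw [wP_spec fun s hs => (lettersB_iff.1 h2 s hs).trans (by norm_num)]
    show wP _ (lineReps.getD 0 0 % 112) = _
    rw [show lineReps.getD 0 0 % 112 = lineReps.getD 0 0 by decide +kernel]
    exact h3

/-- A point collinear with the base point, one on each line. -/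
def rep10 (k : Fin 10) : Fin 112 := ⟨lineReps.getD k 0 % 112, Nat.mod_lt _ (by norm_num)⟩

theorem rep10_spec (k : Fin 10) : Col p0 (rep10 k) ∧
    ∀ l, k ≠ l → ¬ Col (rep10 k) (rep10 l) ∧ rep10 k ≠ rep10 l := by
  have hall := allBelow_eq_true.mp reps_ok
  have h := hall k k.2
  simp only [Bool.and_eq_true, Nat.blt_eq] at h
  have hv : ∀ l : Fin 10, ((rep10 l : Fin 112) : ℕ) = lineReps.getD l 0 := fun l => by
    have h' := hall l l.2
    simp only [Bool.and_eq_true, Nat.blt_eq] at h'
    exact Nat.mod_eq_of_lt h'.1.1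
  refine ⟨by show colB _ _ = true; rw [hv]; exact h.1.2, fun l hl => ?_⟩
  have h2 := allBelow_eq_true.mp h.2 l l.2
  simp only [Bool.or_eq_true, Nat.beq_eq, Bool.and_eq_true, Bool.not_eq_true', natBeq_false] at h2
  have h3 := h2.resolve_left fun e => hl (Fin.ext e)
  refine ⟨fun e => ?_, fun e => h3.2 (by rw [← hv, ← hv, e])⟩
  change colB _ _ = true at e
  rw [hv, hv, h3.1] at e
  exact Bool.noConfusion e

theorem exists_stab {q r : Fin 112} (hq : Col p0 q) (hr : Col p0 r) : ∃ x ∈ Stab0, ιG x q = r := by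
  obtain ⟨-, -, u, hu, eu⟩ := line_rad hq
  obtain ⟨-, -, v, hv, ev⟩ := line_rad hr
  refine ⟨v * u⁻¹, mul_mem hv (inv_mem hu), ?_⟩
  rw [map_mul, map_inv, Equiv.Perm.mul_apply, Equiv.Perm.inv_eq_iff_eq.2 eu.symm]
  exact ev



theorem factorization_three {n m : ℕ} (h : n = 3 ^ 6 * m) (hm : ¬ 3 ∣ m) : n.factorization 3 = 6 := by
  have hm0 : m ≠ 0 := fun e => hm (e ▸ dvd_zero 3)
  rw [h, Nat.factorization_mul (by norm_num) hm0, Finsupp.add_apply, Nat.prime_three.factorization_pow,
    Finsupp.single_eq_same, Nat.factorization_eq_zero_of_not_dvd hm]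

set_option maxHeartbeats 1000000 in
theorem exists_conj_Stab0 (H : Subgroup U62.G) (hH : Nat.card H = 29160) :
    ∃ g : U62.G, H.map (MulAut.conj g).toMonoidHom = Stab0 := by
  classical
  haveI : Fact (Nat.Prime 3) := ⟨Nat.prime_three⟩
  have hS : (Nat.card Stab0).factorization 3 = 6 :=
    factorization_three (m := 40) (by rw [card_Stab0]; norm_num) (by norm_num)
  have hG : (Nat.card U62.G).factorization 3 = 6 :=
    factorization_three (m := 4480) (by rw [UnitMult.FourThree.card_group]; norm_num) (by norm_num)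
  have hEp : IsPGroup 3 ↥(Er.subgroupOf Stab0) := IsPGroup.iff_card.2
    ⟨4, by rw [Nat.card_congr (Subgroup.subgroupOfEquivOfLe Er_le_Stab0).toEquiv, card_Er]; norm_num⟩
  obtain ⟨P, hEP⟩ := hEp.exists_le_sylow
  have hPc : Nat.card P = 3 ^ 6 := by rw [P.card_eq_multiplicity, hS]
  obtain ⟨PG, hPG⟩ : ∃ S : Sylow 3 U62.G, (S : Subgroup U62.G) = (P : Subgroup ↥Stab0).map Stab0.subtype :=
    ⟨Sylow.ofCard ((P : Subgroup ↥Stab0).map Stab0.subtype) (by
    rw [Subgroup.card_map_of_injective Stab0.subtype_injective, hPc, hG]), Sylow.coe_ofCard _ _⟩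
  obtain ⟨Q⟩ : Nonempty (Sylow 3 ↥H) := inferInstance
  have hQc : Nat.card Q = 3 ^ 6 := by
    rw [Q.card_eq_multiplicity, factorization_three (m := 40) (by rw [hH]; norm_num) (by norm_num)]
  obtain ⟨QG, hQG⟩ : ∃ S : Sylow 3 U62.G, (S : Subgroup U62.G) = (Q : Subgroup ↥H).map H.subtype :=
    ⟨Sylow.ofCard ((Q : Subgroup ↥H).map H.subtype) (by
    rw [Subgroup.card_map_of_injective H.subtype_injective, hQc, hG]), Sylow.coe_ofCard _ _⟩
  obtain ⟨g, hg⟩ := MulAction.exists_smul_eq U62.G QG PG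
  refine ⟨g, ?_⟩
  suffices key : ∀ H' : Subgroup U62.G, H' = H.map (MulAut.conj g).toMonoidHom → H' = Stab0 from key _ rfl
  intro H' hH'
  have hc' : Nat.card H' = 29160 := by rw [hH', Subgroup.card_map_of_injective (MulEquiv.injective _), hH]
  have hPle : (PG : Subgroup U62.G) ≤ H' := by
    have hle : (QG : Subgroup U62.G) ≤ H := hQG ▸ Subgroup.map_subtype_le _
    rw [← hg]
    intro x hx
    obtain ⟨y, hy, rfl⟩ := hx
    rw [hH']
    exact ⟨y, hle hy, rfl⟩
  have hErH : Er ≤ H' := fun x hx => hPle (hPG ▸ ⟨⟨x, Er_le_Stab0 hx⟩, hEP hx, rfl⟩)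
  have hP729 : 729 ∣ Nat.card ↥(H' ⊓ Stab0) := by
    have h := Subgroup.card_dvd_of_le (le_inf hPle (hPG ▸ Subgroup.map_subtype_le (P : Subgroup ↥Stab0)))
    rwa [hPG, Subgroup.card_map_of_injective Stab0.subtype_injective, hPc] at h
  -- the orbit of the base point
  let : MulAction ↥H' (Fin 112) := MulAction.compHom _ (ιG.comp H'.subtype)
  have hst : Nat.card (MulAction.stabilizer ↥H' p0) = Nat.card ↥(H' ⊓ Stab0) :=
    Nat.card_congr
      { toFun := fun x => ⟨x.1.1, x.1.2, x.2⟩
        invFun := fun x => ⟨⟨x.1, x.2.1⟩, x.2.2⟩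
        left_inv := fun _ => rfl
        right_inv := fun _ => rfl }
  have hos := Nat.card_congr (MulAction.orbitProdStabilizerEquivGroup ↥H' p0)
  rw [Nat.card_prod, hst, hc'] at hos
  set O := MulAction.orbit ↥H' p0 with hOdef
  have hd : Nat.card O ∣ 40 := by
    obtain ⟨m, hm⟩ := hP729
    rw [hm] at hos
    exact Dvd.intro m (by rw [← Nat.mul_left_inj (a := 729) (by norm_num)]; linarith)
  have hd40 : Nat.card O ≤ 40 := Nat.le_of_dvd (by norm_num) hd
  have hsmul : ∀ (h : ↥H') (p : Fin 112), h • p = ιG h.1 p := fun _ _ => rfl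
  have hinv : ∀ x ∈ H', ∀ y ∈ O, ιG x y ∈ O := fun x hx y hy =>
    (hsmul ⟨x, hx⟩ y) ▸ MulAction.mem_orbit_of_mem_orbit _ hy
  have hcol0 : ∀ y ∈ O, y ≠ p0 → Col p0 y := by
    intro y hy hne
    by_contra hn
    have hsub : (↑(Finset.univ.filter fun q : Fin 112 => farB q = true) : Set (Fin 112)) ⊆ O := by
      intro r hr
      obtain ⟨x, hx, rfl⟩ := far_orbit ⟨hne, hn⟩ ((farB_iff r).1 (Finset.mem_filter.1 hr).2)
      exact hinv x (hErH hx) y hy
    have := Nat.card_mono O.toFinite hsub
    rw [Nat.card_coe_set_eq, Set.ncard_coe_finset, card_far] at this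
    omega
  by_cases hone : ∀ y ∈ O, y = p0
  · refine Subgroup.eq_of_le_of_card_ge (fun x hx => hone _ (hinv x hx p0 (MulAction.mem_orbit_self _))) ?_
    rw [hc', card_Stab0]
  exfalso
  push Not at hone
  obtain ⟨q, hq, hqne⟩ := hone
  have hq0 : Col p0 q := hcol0 q hq hqne
  obtain ⟨hcnt, hline, -⟩ := line_rad hq0
  have hOq : ∀ z ∈ O, z ≠ q → Col q z := by
    intro z hz hne
    obtain ⟨⟨x, hx⟩, hxq⟩ := hq
    change ιG x p0 = q at hxq
    have h := hcol0 _ (hinv x⁻¹ (inv_mem hx) z hz) fun e => hne (by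
      rw [map_inv, Equiv.Perm.inv_eq_iff_eq] at e
      rw [e, hxq])
    rwa [← col_map x, hxq, ← Equiv.Perm.mul_apply, ← map_mul, mul_inv_cancel, map_one,
      Equiv.Perm.one_apply] at h
  set L : Finset (Fin 112) := insert p0 (insert q (Finset.univ.filter fun r => Col p0 r ∧ Col q r))
  have hOL : O = ↑L := by
    ext z
    simp only [L, Finset.coe_insert, Finset.coe_filter, Finset.mem_univ, true_and, Set.mem_insert_iff,
      Set.mem_ofPred_eq]
    constructor
    · intro hz
      by_cases h1 : z = p0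
      · exact Or.inl h1
      by_cases h2 : z = q
      · exact Or.inr (Or.inl h2)
      exact Or.inr (Or.inr ⟨hcol0 z hz h1, hOq z hz h2⟩)
    · rintro (rfl | rfl | ⟨h1, h2⟩)
      · exact MulAction.mem_orbit_self _
      · exact hq
      · obtain ⟨x, hx, rfl⟩ := hline z h1 h2
        exact hinv x (hErH hx) q hq
  have hL4 : L.card = 4 := by
    rw [Finset.card_insert_of_notMem, Finset.card_insert_of_notMem, hcnt]
    · simp [col_irrefl q]
    · simp [Ne.symm hqne, col_irrefl p0]
  rw [hOL, Nat.card_coe_set_eq, Set.ncard_coe_finset, hL4] at hos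
  choose x hx hxq using fun k => exists_stab hq0 (rep10_spec k).1
  let S' := (H' ⊓ Stab0).subgroupOf Stab0
  have hidx : S'.index = 4 := by
    have h := S'.card_mul_index
    rw [Nat.card_congr (Subgroup.subgroupOfEquivOfLe (inf_le_right : H' ⊓ Stab0 ≤ Stab0)).toEquiv,
      card_Stab0] at h
    have : Nat.card ↥(H' ⊓ Stab0) = 7290 := by omega
    rw [this] at h
    omega
  have hinj : Function.Injective fun k => ((⟨x k, hx k⟩ : ↥Stab0) : ↥Stab0 ⧸ S') := by
    intro k l e
    by_contra hne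
    have hm := (Subgroup.mem_inf.1 (Subgroup.mem_subgroupOf.1 (QuotientGroup.eq.1 e))).1
    have h2 := hinv _ hm q hq
    change ιG ((x k)⁻¹ * x l) q ∈ O at h2
    rw [map_mul, map_inv, Equiv.Perm.mul_apply, hxq] at h2
    obtain ⟨hnc, hnr⟩ := (rep10_spec k).2 l hne
    have h4 : (ιG (x k))⁻¹ (rep10 l) = q ∨ Col q ((ιG (x k))⁻¹ (rep10 l)) := by
      by_cases h5 : (ιG (x k))⁻¹ (rep10 l) = q
      · exact Or.inl h5
      · exact Or.inr (hOq _ h2 h5)
    rcases h4 with h4 | h4
    · rw [Equiv.Perm.inv_eq_iff_eq, hxq] at h4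
      exact hnr h4.symm
    · rw [← col_map (x k), hxq, ← Equiv.Perm.mul_apply, mul_inv_cancel, Equiv.Perm.one_apply] at h4
      exact hnc h4
  have := Nat.card_le_card_of_injective _ hinj
  rw [Nat.card_eq_fintype_card, Fintype.card_fin, ← Subgroup.index, hidx] at this
  omega

end Cfsg.Agent.McLRank
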