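import Mathlib.Data.Nat.Notation

/-! A search tree for hemisystems: forced lines, then a branch point, a contradiction or a solution. -/

set_option autoImplicit false

namespace Cfsg.Agent.McLRank

/-- A search tree. -/
inductive HTree where
  | bad (fs : List Nat) (k : Nat)
  | sol (fs : List Nat) (i : Nat)
  | br (fs : List Nat) (p : Nat) (l r : HTree)

end Cfsg.Agent.McLRank
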